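import Cfsg.Agent.Lib.ClAut.Desc2
import Cfsg.Agent.Lib.Mathieu.L34

/-! The unitriangular subgroup of `PSL(3, 4)`. -/

set_option autoImplicit false

namespace CfsgLib.StdR2

open Subgroup Matrix CfsgLib.Classical CfsgLib.ClAut

/-- `SL(3, 4)` -/
abbrev SL : Type := SpecialLinearGroup (Fin 3) GF4
/-- `PSL(3, 4)` -/
abbrev PP : Type := ProjectiveSpecialLinearGroup (Fin 3) GF4

/-- the generator of the field -/
def ω : GF4 := ⟨0, 1⟩

/-- the quotient map -/
abbrev pj (s : SL) : PP := QuotientGroup.mk s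

/-- unitriangular matrices -/
def u (a b c : GF4) : SL := ⟨!![1, a, c; 0, 1, b; 0, 0, 1], by simp [det_fin_three]⟩

/-- unitriangular matrices -/
def ub (a b c : GF4) : PP := pj (u a b c)

theorem pj_mul (s t : SL) : pj s * pj t = pj (s * t) := rfl

theorem ub_mul (a b c a' b' c' : GF4) :
    ub a b c * ub a' b' c' = ub (a + a') (b + b') (c + c' + a * b') := by
  refine congrArg pj (Subtype.ext (Matrix.ext fun i j => ?_) : u a b c * u a' b' c' = _)
  rw [Matrix.SpecialLinearGroup.coe_mul]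
  fin_cases i <;> fin_cases j <;> simp [u, mul_apply, Fin.sum_univ_three] <;> ring

theorem ub_zero : ub 0 0 0 = 1 := congrArg pj (Subtype.ext (by decide +kernel) : u 0 0 0 = 1)

theorem smul_of_pj {s t : SL} (h : pj s = pj t) : ∃ r : GF4, t.1 = r • s.1 := by
  obtain ⟨r, -, hr⟩ := Matrix.SpecialLinearGroup.mem_center_iff.1 (QuotientGroup.eq.1 h)
  refine ⟨r, ?_⟩
  have : t = s * (s⁻¹ * t) := by group
  rw [this, Matrix.SpecialLinearGroup.coe_mul, ← hr]
  simp [← smul_eq_mul_diagonal]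

theorem pj_of_smul {s t : SL} {r : GF4} (h : t.1 = r • s.1) : pj s = pj t := by
  refine QuotientGroup.eq.2 (Matrix.SpecialLinearGroup.mem_center_iff.2 ⟨r, ?_, ?_⟩)
  · simpa [t.2, s.2] using (congrArg det h).symm
  · rw [Matrix.SpecialLinearGroup.coe_mul, h, Matrix.mul_smul, ← Matrix.SpecialLinearGroup.coe_mul,
      inv_mul_cancel]
    simp [smul_one_eq_diagonal]

theorem ub_inj {a b c a' b' c' : GF4} (h : ub a b c = ub a' b' c') : a = a' ∧ b = b' ∧ c = c' := by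
  obtain ⟨r, hr⟩ := smul_of_pj h
  have h0 := congrFun (congrFun hr 0) 0
  have h1 := congrFun (congrFun hr 0) 1
  have h2 := congrFun (congrFun hr 1) 2
  have h3 := congrFun (congrFun hr 0) 2
  simp [u] at h0 h1 h2 h3
  subst h0
  simp_all

theorem conj_pj {g s t : SL} (h : g.1 * s.1 = t.1 * g.1) : pj g * pj s * (pj g)⁻¹ = pj t :=
  mul_inv_eq_iff_eq_mul.2 (congrArg pj (Subtype.ext h : g * s = t * g))

theorem conj_one {a c : GF4} (h : ¬ (a = 0 ∧ c = 0)) :
    ∃ g : PP, g * ub 0 0 1 * g⁻¹ = ub a 0 c := by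
  obtain ⟨p, q, e⟩ := (by decide +kernel : ∀ a c : GF4, ¬ (a = 0 ∧ c = 0) →
    ∃ p q, p * c - q * a = 1) a c h
  have h1 := conj_pj (g := ⟨!![1, 0, 0; 0, p, q; 0, a, c], by simpa [det_fin_three] using e⟩)
    (s := u a 0 c) (t := u 0 0 1) (by
      refine Matrix.ext fun i j => ?_
      fin_cases i <;> fin_cases j <;> simp [u, mul_apply, Fin.sum_univ_three])
  have h2 : ∀ g : PP, g * ub a 0 c * g⁻¹ = ub 0 0 1 → ∃ g : PP, g * ub 0 0 1 * g⁻¹ = ub a 0 c :=
    fun g h => ⟨g⁻¹, by rw [← h]; group⟩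
  exact h2 _ h1

theorem conj_two {b c : GF4} (h : ¬ (b = 0 ∧ c = 0)) :
    ∃ g : PP, g * ub 0 0 1 * g⁻¹ = ub 0 b c := by
  obtain ⟨p, q, e⟩ := (by decide +kernel : ∀ a c : GF4, ¬ (a = 0 ∧ c = 0) →
    ∃ p q, c * p - q * a = 1) b c h
  refine ⟨_, conj_pj (g := ⟨!![c, q, 0; b, p, 0; 0, 0, 1], by simpa [det_fin_three] using e⟩) ?_⟩
  refine Matrix.ext fun i j => ?_
  fin_cases i <;> fin_cases j <;> simp [u, mul_apply, Fin.sum_univ_three]

/-- first Weyl element -/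
def nb : PP := pj ⟨!![1, 0, 0; 0, 0, 1; 0, 1, 0], by decide +kernel⟩
/-- second Weyl element -/
def mb : PP := pj ⟨!![0, 1, 0; 1, 0, 0; 0, 0, 1], by decide +kernel⟩
/-- the torus -/
def tb : PP := pj ⟨!![ω, 0, 0; 0, 1, 0; 0, 0, ω + 1], by decide +kernel⟩

theorem nb_conj (a c : GF4) : nb * ub a 0 c * nb⁻¹ = ub c 0 a := conj_pj (by
  refine Matrix.ext fun i j => ?_
  fin_cases i <;> fin_cases j <;> simp [u, mul_apply, Fin.sum_univ_three])

theorem mb_conj (b c : GF4) : mb * ub 0 b c * mb⁻¹ = ub 0 c b := conj_pj (by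
  refine Matrix.ext fun i j => ?_
  fin_cases i <;> fin_cases j <;> simp [u, mul_apply, Fin.sum_univ_three])

theorem tb_conj (a b c : GF4) : tb * ub a b c * tb⁻¹ = ub (ω * a) (ω * b) ((ω + 1) * c) :=
  conj_pj (by
    have h : ∀ c : GF4, ω * c = (ω + 1) * c * (ω + 1) ∧ c = ω * c * (ω + 1) := by decide +kernel
    refine Matrix.ext fun i j => ?_
    fin_cases i <;> fin_cases j <;> simp [u, mul_apply, Fin.sum_univ_three, ← (h _).1, ← (h _).2])

theorem nb_sq : nb * nb = 1 := congrArg pj (Subtype.ext (by decide +kernel) : _ = (1 : SL))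
theorem mb_sq : mb * mb = 1 := congrArg pj (Subtype.ext (by decide +kernel) : _ = (1 : SL))

theorem tb_nb : tb * nb * tb = nb := (pj_of_smul (r := ω + 1) (by decide +kernel)).symm
theorem tb_mb : tb * mb * tb = mb := (pj_of_smul (r := ω) (by decide +kernel)).symm

theorem key {g : GL (Fin 3) GF4} {M : Matrix (Fin 3) (Fin 3) GF4} {s : SL} {a b c : GF4}
    (hs : s.1 = g.1 * M * g⁻¹.1) (hM : trace M = 1) (h : ub a b c = pj s) :
    (u a b c).1 * g.1 = g.1 * M := by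
  obtain ⟨r, hr⟩ := smul_of_pj h
  have h1 := congrArg trace hr
  rw [hs, trace_units_conj, hM, trace_smul,
    show trace (u a b c).1 = 1 by simp [u, trace_fin_three]; decide +kernel] at h1
  rw [smul_eq_mul, mul_one] at h1
  rw [← h1, one_smul, hs] at hr
  rw [← hr, Units.inv_mul_cancel_right]

theorem trace_map (σ : GF4 ≃+* GF4) (a b c : GF4) : trace ((u a b c).1.map σ) = 1 := by
  simp [u, trace_fin_three]; decide +kernel

theorem upper {g : Matrix (Fin 3) (Fin 3) GF4} {c : GF4} (hc : c ≠ 0)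
    (h : (u 0 0 c).1 * g = g * (u 0 0 c).1) : g 1 0 = 0 ∧ g 2 0 = 0 ∧ g 2 1 = 0 ∧ g 2 2 = g 0 0 := by
  have h0 := congrFun (congrFun h 0) 0
  have h1 := congrFun (congrFun h 0) 1
  have h2 := congrFun (congrFun h 0) 2
  have h3 := congrFun (congrFun h 1) 2
  simp [u, mul_apply, Fin.sum_univ_three, hc] at h0 h1 h2 h3
  exact ⟨h3, h0, h1, mul_left_cancel₀ hc (by linear_combination h2)⟩

theorem eq_smul_u {g : Matrix (Fin 3) (Fin 3) GF4} (h : g 1 0 = 0 ∧ g 2 0 = 0 ∧ g 2 1 = 0 ∧ g 2 2 = g 0 0)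
    (h1 : g 1 1 = g 0 0) (h0 : g 0 0 ≠ 0) : ∃ a b c, g = g 0 0 • (u a b c).1 := by
  refine ⟨g 0 1 / g 0 0, g 1 2 / g 0 0, g 0 2 / g 0 0, ?_⟩
  refine Matrix.ext fun i j => ?_
  fin_cases i <;> fin_cases j <;> simp [u, h, h1, mul_div_cancel₀, h0]

theorem cent_ub {g : PP} {c : GF4} (hc : c ≠ 0) (h : g * ub 0 0 c * g⁻¹ = ub 0 0 c) :
    ∃ a b c, g = ub a b c := by
  induction g using QuotientGroup.induction_on with
  | H s =>
    have h1 := upper hc (key (g := slGL _ _ s) (M := (u 0 0 c).1) (s := s * u 0 0 c * s⁻¹)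
      (by rw [← map_inv]; rfl) (trace_map 1 0 0 c) h.symm)
    have h2 := s.2
    simp only [coe_slGL] at h1
    rw [det_fin_three] at h2
    simp only [h1, mul_zero, zero_mul, sub_zero, add_zero] at h2
    obtain ⟨h3, h4⟩ := (by decide +kernel : ∀ x y : GF4, x * y * x = 1 → y = x ∧ x ≠ 0) _ _ h2
    obtain ⟨a, b, c, e⟩ := eq_smul_u h1 h3 h4
    exact ⟨a, b, c, (pj_of_smul e).symm⟩

theorem conj_field_pj (g : GL (Fin 3) GF4) (σ : GF4 ≃+* GF4) (s : SL) : ∃ t : SL,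
    (pslConj (Fin 3) GF4 g * pslField (Fin 3) GF4 σ) (pj s) = pj t ∧ t.1 = g.1 * s.1.map σ * g⁻¹.1 := by
  obtain ⟨t, ht⟩ := ((⟨MulAut.conj g, conj_mem_stabAut_sl g⟩ *
    ⟨glField _ _ σ, glField_mem_stabAut_sl σ⟩ : stabAut (slGL (Fin 3) GF4)).2 _).1 ⟨s, rfl⟩
  refine ⟨t, ?_, congrArg Units.val ht⟩
  rw [pslConj_eq, pslField_eq, ← map_mul]
  exact indAut_mk _ _ _ ht

theorem invT_pj {s t : SL} (h : t.1ᵀ * s.1 = 1) : pslInvT _ _ (pj s) = pj t := by
  refine indAut_mk _ _ _ (Units.ext ?_)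
  rw [coe_slGL]
  show _ = ((slGL _ _ s)⁻¹ : GL (Fin 3) GF4).1ᵀ
  rw [Units.inv_eq_of_mul_eq_one_left h, transpose_transpose]

theorem aut_ub {β : MulAut PP} {c : GF4} (h1 : β (ub 0 0 1) = ub 0 0 1) (h2 : β (ub 0 0 ω) = ub 0 0 ω)
    (h3 : β (ub 1 0 0) = ub 1 0 c) : ∃ a b c, β = MulAut.conj (ub a b c) := by
  have hd : ∀ g : GL (Fin 3) GF4, g.1.det ≠ 0 := fun g => (isUnit_iff_isUnit_det _).1 g.isUnit |>.ne_zero
  obtain ⟨g, σ, rfl | rfl⟩ := psl_aut (by simp) β
  · have k : ∀ {a c a' c'}, (pslConj (Fin 3) GF4 g * pslField (Fin 3) GF4 σ) (ub a 0 c) = ub a' 0 c' →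
        (u a' 0 c').1 * g.1 = g.1 * (u a 0 c).1.map σ := fun {a c a' c'} h => by
      obtain ⟨t, e, ht⟩ := conj_field_pj g σ (u a 0 c)
      exact key ht (trace_map _ _ _ _) (h.symm.trans e)
    have e1 := k h1
    rw [show (u 0 0 1).1.map σ = (u 0 0 1).1 by
      refine Matrix.ext fun i j => ?_; fin_cases i <;> fin_cases j <;> simp [u]] at e1
    have h4 := upper one_ne_zero e1
    have h5 := hd g
    rw [det_fin_three] at h5
    simp only [h4, mul_zero, zero_mul, sub_zero, add_zero] at h5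
    have h0 : g.1 0 0 ≠ 0 := fun h => h5 (by rw [h, mul_zero])
    have e2 := congrFun (congrFun (k h2) 0) 2
    have e3 := congrFun (congrFun (k h3) 0) 1
    simp [u, mul_apply, Fin.sum_univ_three, h4] at e2 e3
    have h6 : σ ω = ω := mul_left_cancel₀ h0 (by linear_combination -e2)
    obtain rfl : σ = 1 := RingEquiv.ext fun x => by
      rcases (by decide +kernel : ∀ x : GF4, x = 0 ∨ x = 1 ∨ x = ω ∨ x = ω + 1) x with
        rfl | rfl | rfl | rfl <;> simp [h6]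
    obtain ⟨a, b, c, e⟩ := eq_smul_u h4 (by linear_combination e3) h0
    refine ⟨a, b, c, ?_⟩
    rw [map_one, mul_one, show g = glScalar _ _ (Units.mk0 _ h0) * slGL _ _ (u a b c) from
      Units.ext (by rw [Units.val_mul, coe_glScalar, smul_mul_assoc, one_mul]; exact e),
      pslConj_glScalar_mul, pslConj_slGL]
    rfl
  · exfalso
    have k : ∀ {a c a' c'} (t : SL), t.1ᵀ * (u a 0 c).1 = 1 → trace (t.1.map σ) = 1 →
        (pslConj (Fin 3) GF4 g * pslField (Fin 3) GF4 σ * pslInvT (Fin 3) GF4) (ub a 0 c) = ub a' 0 c' →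
        (u a' 0 c').1 * g.1 = g.1 * t.1.map σ := fun {a c a' c'} t ht h0 h => by
      obtain ⟨t', e, ht'⟩ := conj_field_pj g σ t
      rw [MulAut.mul_apply, ub, invT_pj ht] at h
      exact key ht' h0 (h.symm.trans e)
    have e1 := k (a := 0) (c := 1) ⟨!![1, 0, 0; 0, 1, 0; 1, 0, 1], by decide +kernel⟩ (by decide +kernel)
      (by simp [trace_fin_three]; decide +kernel) h1
    have e2 := k (a := 1) (c := 0) ⟨!![1, 0, 0; 1, 1, 0; 0, 0, 1], by decide +kernel⟩ (by decide +kernel)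
      (by simp [trace_fin_three]; decide +kernel) h3
    have a1 := congrFun (congrFun e1 1) 0
    have a2 := congrFun (congrFun e1 2) 0
    have a3 := congrFun (congrFun e2 1) 0
    have a4 := congrFun (congrFun e2 2) 0
    simp [u, mul_apply, Fin.sum_univ_three] at a1 a2 a3 a4
    exact hd g (by simp [det_fin_three, a1, a2, a3, a4])

end CfsgLib.StdR2
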