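import Cfsg.Agent.Lib.StdR2.HeInd
import Cfsg.Agent.Lib.StdR2.HePsl
import Cfsg.Agent.Lib.SylT.PC

/-! Coordinates in a perfect central extension of `PSL(3, 4)` by a four-group. -/

set_option autoImplicit false
set_option Elab.async false
set_option synthInstance.maxSize 100000

namespace CfsgLib.StdR2

open Subgroup CfsgLib.W2 CfsgLib.W2.TG CfsgLib.Tech CfsgLib.Classical CfsgLib.SylT
open scoped commutatorElement

/-- field elements from numbers -/
def gf (k : ℕ) : GF4 := ⟨((k % 2 : ℕ) : ZMod 2), ((k / 2 % 2 : ℕ) : ZMod 2)⟩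
/-- first coordinate -/
noncomputable def cA (x : SA) : GF4 := gf x.v
/-- second coordinate -/
noncomputable def cB (x : SA) : GF4 := gf (x.v / 4)
/-- third coordinate -/
noncomputable def cC (x : SA) : GF4 := gf (tab1 2 3 0x36d24eaa63871bff9c78e400c92db1559c78e400c92db15536d24eaa63871bffc92db1559c78e40063871bff36d24eaa63871bff36d24eaac92db1559c78e400 x.v)

theorem c_gen : ∀ g ∈ ([o 1, o 2, o 4, o 8] : List SA), ∀ a, cA (a * g) = cA a + cA g ∧
    cB (a * g) = cB a + cB g ∧ cC (a * g) = cC a + cC g + cA a * cB g := by decide +kernel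

/-- the map to `PSL(3, 4)` -/
noncomputable def ρ : SA →* PP := homOf genA (fun x => ub (cA x) (cB x) (cC x)) ub_zero
  fun g hg a => by rw [ub_mul, (c_gen g hg a).1, (c_gen g hg a).2.1, (c_gen g hg a).2.2]

theorem ρ_eq (x : SA) {a b c : GF4} (h : cA x = a ∧ cB x = b ∧ cC x = c) : ρ x = ub a b c := by
  rw [← h.1, ← h.2.1, ← h.2.2]; rfl

theorem ρ_eq_one {x : SA} : ρ x = 1 ↔ InV x := by
  have h : ∀ x, cA x = 0 ∧ cB x = 0 ∧ cC x = 0 ↔ InV x := by decide +kernel
  rw [← h, ← ub_zero]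
  exact ⟨ub_inj, ρ_eq x⟩

theorem ρ_surj (a b c : GF4) : ∃ x, ρ x = ub a b c :=
  ((by decide +kernel : ∀ a b c, ∃ x, cA x = a ∧ cB x = b ∧ cC x = c) a b c).imp fun x => ρ_eq x

theorem index_ρ : ρ.range.index = 315 := by
  have h1 := ρ.ker.card_mul_index
  have h2 := ρ.range.card_mul_index
  rw [index_ker, card_eq, card_subgroup _ InV fun _ => ρ_eq_one,
    show cnt InV = 4 by decide +kernel] at h1
  rw [Mathieu.card_psl3_of_card card_GF4, show Nat.card ρ.range = 64 by omega] at h2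
  omega

theorem ub_comm (a b : GF4) : ⁅ub a 0 0, ub 0 b 0⁆ = ub 0 0 (a * b) := by
  rw [commutatorElement_def, mul_inv_eq_iff_eq_mul, mul_inv_eq_iff_eq_mul]
  simp [ub_mul]

variable {B : Type*} [Group B] {π : B →* PP}

/-- a perfect central extension by a four-group -/
structure Cov (π : B →* PP) : Prop where
  surj : Function.Surjective π
  ker : π.ker = center B
  sq : ∀ z ∈ center B, z * z = 1
  card : Nat.card (center B) = 4
  perf : commutator B = ⊤

namespace Cov

variable (C : Cov π) {φ : SA →* B}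
include C

theorem cen {z : B} (h : π z = 1) (w : B) : z * w = w * z :=
  (mem_center_iff.1 (C.ker.le h) w).symm

omit C in
theorem eq_mul {x y : B} (h : π x = π y) : ∃ z, π z = 1 ∧ x = y * z :=
  ⟨y⁻¹ * x, by simp [h], by simp⟩

theorem cm_eq {x y x' y' : B} (h : π x = π x') (h' : π y = π y') : ⁅x, y⁆ = ⁅x', y'⁆ := by
  obtain ⟨z, hz, rfl⟩ := eq_mul h
  obtain ⟨w, hw, rfl⟩ := eq_mul h'
  exact cm_cen (C.cen hz) (C.cen hw)

theorem conj_eq {x x' : B} (h : π x = π x') (y : B) : x * y * x⁻¹ = x' * y * x'⁻¹ := by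
  have := C.cm_eq h (rfl : π y = π y)
  rwa [commutatorElement_def, commutatorElement_def, mul_left_inj] at this

theorem sq_const {x y : B} {g : PP} (hy : π y = ub 0 0 1) (hx : π x = g * ub 0 0 1 * g⁻¹) :
    x * x = y * y := by
  obtain ⟨g, rfl⟩ := C.surj g
  obtain ⟨z, hz, rfl⟩ := eq_mul (π := π) (x := x) (y := g * y * g⁻¹) (by simp [hx, hy])
  have h1 : π (y * y) = 1 := by
    rw [map_mul, hy, ub_mul, ← ub_zero]; congr 1
  calc _ = g * y * g⁻¹ * (z * (g * y * g⁻¹)) * z := by group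
    _ = g * (y * y) * g⁻¹ * (z * z) := by rw [C.cen hz]; group
    _ = _ := by rw [C.sq z (C.ker.le hz), ← C.cen h1]; group

theorem sq_one {x : B} {g : PP} (hx : π x = g * ub 0 0 1 * g⁻¹) : x * x = 1 := by
  obtain ⟨y, hy⟩ := C.surj (ub 0 0 1)
  obtain ⟨b, hb⟩ := C.surj (ub 0 0 ω)
  obtain ⟨c, hc⟩ := C.surj (ub 1 0 0)
  have k : ∀ {w a c}, ¬ (a = 0 ∧ c = 0) → π w = ub a 0 c → w * w = y * y := fun h hw => by
    obtain ⟨g, e⟩ := conj_one h
    exact C.sq_const hy (hw.trans e.symm)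
  have h1 := k (w := y * b) (a := 0) (c := 1 + ω) (by decide) (by simp [hy, hb, ub_mul])
  have h2 := k (w := y * c) (a := 1) (c := 1) (by decide) (by simp [hy, hc, ub_mul])
  have h3 := k (w := b * c) (a := 1) (c := ω) (by decide) (by simp [hb, hc, ub_mul])
  have h4 := k (w := y * b * c) (a := 1) (c := 1 + ω) (by decide) (by simp [hy, hb, hc, ub_mul])
  have h5 := k (by decide) hb
  have h6 := k (by decide) hc
  have h7 : π (y * y) = 1 := by
    rw [map_mul, hy, ub_mul, ← ub_zero]; congr 1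
  have e2 : c * y = y * c⁻¹ := by
    rw [eq_mul_inv_iff_mul_eq, ← mul_right_inj y, ← h2]; group
  have e3 : c⁻¹ * b = b * c := by
    rw [inv_mul_eq_iff_eq_mul, ← mul_right_inj b, h5, ← h3]; group
  rw [C.sq_const hy hx, ← h4]
  calc _ = y * b * (c * y) * b * c := by group
    _ = y * b * y * (c⁻¹ * b) * c := by rw [e2]; group
    _ = y * b * (y * b) * (c * c) := by rw [e3]; group
    _ = 1 := by rw [h1, h6, C.sq _ (C.ker.le h7)]

theorem sq1 {x : B} (h : ∃ a c, π x = ub a 0 c) : x * x = 1 := by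
  obtain ⟨a, c, h⟩ := h
  by_cases h0 : a = 0 ∧ c = 0
  · exact C.sq x (C.ker.le (by rwa [h0.1, h0.2, ub_zero] at h))
  · obtain ⟨g, e⟩ := conj_one h0
    exact C.sq_one (h.trans e.symm)

theorem sq2 {x : B} (h : ∃ b c, π x = ub 0 b c) : x * x = 1 := by
  obtain ⟨a, c, h⟩ := h
  by_cases h0 : a = 0 ∧ c = 0
  · exact C.sq x (C.ker.le (by rwa [h0.1, h0.2, ub_zero] at h))
  · obtain ⟨g, e⟩ := conj_two h0
    exact C.sq_one (h.trans e.symm)

omit C in
theorem comm_of_sq {x y : B} (hx : x * x = 1) (hy : y * y = 1) (h : x * y * (x * y) = 1) :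
    x * y = y * x := by
  rw [← inv_eq_of_mul_eq_one_left h, mul_inv_rev, inv_eq_of_mul_eq_one_left hx,
    inv_eq_of_mul_eq_one_left hy]

theorem exists_phi {a1 a2 b1 b2 : B} (h1 : π a1 = ub 1 0 0) (h2 : π a2 = ub ω 0 0)
    (h3 : π b1 = ub 0 1 0) (h4 : π b2 = ub 0 ω 0) : ∃ φ : SA →* B, φ (o 1) = a1 ∧ φ (o 2) = a2 ∧
      φ (o 4) = b1 ∧ φ (o 8) = b2 ∧ ∀ x, π (φ x) = ρ x := by
  let x : ℕ → B := fun i => [a1, a2, b1, b2, ⁅a1, b1⁆, ⁅a1, b2⁆, ⁅a2, b1⁆, ⁅a2, b2⁆].getD i 1
  have k : ∀ i < 8, (i ≠ 2 → i ≠ 3 → ∃ a c, π (x i) = ub a 0 c) ∧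
      (2 ≤ i → ∃ b c, π (x i) = ub 0 b c) := fun i hi => by
    interval_cases i <;> simp only [x, List.getD_cons_succ, List.getD_cons_zero,
      map_commutatorElement, h1, h2, h3, h4, ub_comm] <;>
      exact ⟨fun _ _ => by first | contradiction | exact ⟨_, _, rfl⟩,
        fun _ => by first | omega | exact ⟨_, _, rfl⟩⟩
  have hx : PcRel x 8 (fun _ => [])
      fun i j => if i < 2 ∧ (j = 2 ∨ j = 3) then [2 + 2 * i + j, j] else [j] := by
    refine fun i hi => ⟨?_, fun j hj hij => ?_⟩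
    · by_cases h : 2 ≤ i
      · exact C.sq2 ((k i hi).2 h)
      · exact C.sq1 ((k i hi).1 (by omega) (by omega))
    · beta_reduce
      split_ifs with h
      · obtain ⟨h5, rfl | rfl⟩ := h <;> interval_cases i <;> simp [ew, x, commutatorElement_def]
      · simp only [ew, List.map_cons, List.map_nil, List.prod_cons, List.prod_nil, mul_one]
        by_cases h5 : 2 ≤ i
        · obtain ⟨a, c, e⟩ := (k i hi).2 h5
          obtain ⟨a', c', e'⟩ := (k j hj).2 (by omega)
          exact comm_of_sq (C.sq2 ⟨_, _, e⟩) (C.sq2 ⟨_, _, e'⟩)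
            (C.sq2 ⟨_, _, by rw [map_mul, e, e', ub_mul, zero_add]⟩)
        · obtain ⟨a, c, e⟩ := (k i hi).1 (by omega) (by omega)
          obtain ⟨a', c', e'⟩ := (k j hj).1 (by omega) (by omega)
          exact comm_of_sq (C.sq1 ⟨_, _, e⟩) (C.sq1 ⟨_, _, e'⟩)
            (C.sq1 ⟨_, _, by rw [map_mul, e, e', ub_mul, zero_add]⟩)
  obtain ⟨φ, hφ⟩ := exists_hom_pc (g := fun i => (o (2 ^ i) : SA)) (by decide +kernel) hx
    (by decide +kernel) (by rw [card_eq]; decide) fun S hS => eq_top_of_genB genA fun g hg => by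
      simp only [List.mem_cons, List.not_mem_nil, or_false] at hg
      rcases hg with rfl | rfl | rfl | rfl
      exacts [hS 0 (by decide), hS 1 (by decide), hS 2 (by decide), hS 3 (by decide)]
  have e1 := hφ 0 (by decide)
  have e2 := hφ 1 (by decide)
  have e3 := hφ 2 (by decide)
  have e4 := hφ 3 (by decide)
  refine ⟨φ, e1, e2, e3, e4, DFunLike.congr_fun (hom_ext genA (φ := π.comp φ) fun g hg => ?_)⟩
  simp only [List.mem_cons, List.not_mem_nil, or_false] at hg
  rcases hg with rfl | rfl | rfl | rfl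
  exacts [(congrArg π e1).trans (h1.trans (ρ_eq _ (by decide +kernel)).symm),
    (congrArg π e2).trans (h2.trans (ρ_eq _ (by decide +kernel)).symm),
    (congrArg π e3).trans (h3.trans (ρ_eq _ (by decide +kernel)).symm),
    (congrArg π e4).trans (h4.trans (ρ_eq _ (by decide +kernel)).symm)]

theorem cen_le [Finite B] (hφ : ∀ x, π (φ x) = ρ x) {z : B} (hz : π z = 1) :
    ∃ v, InV v ∧ φ v = z := by
  let S := ρ.range.comap π
  have h1 : S.index = 315 := (index_comap_of_surjective _ C.surj).trans index_ρ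
  have h2 := MonoidHom.transfer_eq_pow (Abelianization.of (G := S)) z fun k g _ => by
    rw [mul_assoc, C.cen (z := z ^ k) (by rw [map_pow, hz, one_pow]), inv_mul_cancel_left]
  rw [Abelianization.commutator_subset_ker _ (C.perf.ge (mem_top z)), eq_comm,
    ← MonoidHom.mem_ker, Abelianization.ker_of] at h2
  have h3 : commutator S ≤ (EE.map φ).subgroupOf S := commutator_le.2 fun a _ b _ => by
    obtain ⟨x, hx⟩ := a.2
    obtain ⟨y, hy⟩ := b.2
    refine ⟨⁅x, y⁆, ?_, ?_⟩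
    · exact (by decide +kernel : ∀ x y : SA, InE (x * y * x⁻¹ * y⁻¹)) x y
    · rw [map_commutatorElement]
      exact C.cm_eq ((hφ x).trans hx) ((hφ y).trans hy)
  obtain ⟨e, -, he⟩ := h3 h2
  have h4 : φ e = z := by
    rw [he]
    show z ^ S.index = z
    rw [h1, show 315 = 2 * 157 + 1 from rfl, pow_succ, pow_mul, pow_two, C.sq z (C.ker.le hz),
      one_pow, one_mul]
  exact ⟨e, ρ_eq_one.1 (by rw [← hφ, h4, hz]), h4⟩

theorem inj [Finite B] (hφ : ∀ x, π (φ x) = ρ x) : Function.Injective φ := by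
  let F : VV → center B := fun v => ⟨φ v, C.ker.le ((hφ _).trans (ρ_eq_one.2 v.2))⟩
  have h1 : Function.Surjective F := fun z => by
    obtain ⟨v, hv, e⟩ := C.cen_le hφ (C.ker.ge z.2)
    exact ⟨⟨v, hv⟩, Subtype.ext e⟩
  have h2 := h1.bijective_of_nat_card_le (by
    rw [C.card, card_subgroup VV InV fun _ => Iff.rfl]; decide +kernel)
  refine (injective_iff_map_eq_one φ).2 fun x hx => ?_
  have h3 : x ∈ VV := ρ_eq_one.1 (by rw [← hφ, hx, map_one])
  exact congrArg Subtype.val (h2.1 (a₁ := ⟨x, h3⟩) (a₂ := 1) (Subtype.ext (hx.trans φ.map_one.symm)))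

theorem mem_range [Finite B] (hφ : ∀ x, π (φ x) = ρ x) {g : B} {x : SA} (h : π g = ρ x) :
    ∃ v, InV v ∧ g = φ (x * v) := by
  obtain ⟨z, hz, rfl⟩ := eq_mul (h.trans (hφ x).symm)
  obtain ⟨v, hv, rfl⟩ := C.cen_le hφ hz
  exact ⟨v, hv, (map_mul _ _ _).symm⟩

theorem hom_eq {α β : B →* B} (h : ∀ y, π (α y) = π (β y)) (y : B) : α y = β y := by
  refine (show commutator B ≤ α.eqLocus β from commutator_le.2 fun a _ b _ => ?_)
    (C.perf.ge (mem_top y))
  show α _ = β _
  rw [map_commutatorElement, map_commutatorElement]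
  exact C.cm_eq (h a) (h b)

theorem aut (e : B ⧸ center B ≃* PP) (he : ∀ y, π y = e (QuotientGroup.mk y))
    (hφ : ∀ x, π (φ x) = ρ x) (α : MulAut B) (h : ∀ e, InE e → α (φ e) = φ e) {c : SA} (hc : InE c)
    (h' : α (φ (o 1)) = φ (o 1 * c)) : ∃ s, ∀ y, α y = φ s * y * (φ s)⁻¹ := by
  let β : MulAut PP := (e.symm.trans (ClAut.qAut B α)).trans e
  have h1 : ∀ y, β (π y) = π (α y) := fun y => by simp [β, he]
  have h2 : ∀ x y, α (φ x) = φ y → β (ρ x) = ρ y := fun x y e => by rw [← hφ, h1, e, hφ]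
  have e1 := h2 _ _ (h (o 16) (by decide +kernel))
  have e2 := h2 _ _ (h (o 32) (by decide +kernel))
  have e3 := h2 _ _ h'
  have h3 := (by decide +kernel : ∀ c, InE c → cA (o 1 * c) = 1 ∧ cB (o 1 * c) = 0) c hc
  rw [ρ_eq _ (a := 0) (b := 0) (c := 1) (by decide +kernel)] at e1
  rw [ρ_eq _ (a := 0) (b := 0) (c := ω) (by decide +kernel)] at e2
  rw [ρ_eq _ (a := 1) (b := 0) (c := 0) (by decide +kernel), ρ_eq _ ⟨h3.1, h3.2, rfl⟩] at e3
  obtain ⟨a, b, c, h4⟩ := aut_ub e1 e2 e3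
  obtain ⟨s, hs⟩ := ρ_surj a b c
  refine ⟨s, C.hom_eq (α := α.toMonoidHom) (β := (MulAut.conj (φ s)).toMonoidHom) fun y => ?_⟩
  simp [← h1, h4, hφ, hs]

omit C in
theorem act_of_gens {φ : SA →* B} {n : B} {gs : List SA} {P : SA → Prop} {f : SA → SA}
    (h1 : (P 1 ∧ f 1 = 1) ∧ (∀ w, P w → bit (sp gs 4) w.v = true) ∧
      ∀ g ∈ gs, ∀ a, P a → P (a * g) ∧ f (a * g) = f a * f g)
    (h2 : ∀ g ∈ gs, n * φ g * n⁻¹ = φ (f g)) (w : SA) (hw : P w) : n * φ w * n⁻¹ = φ (f w) :=
  (sp_ind (P := fun w => P w ∧ n * φ w * n⁻¹ = φ (f w)) ⟨h1.1.1, by simp [h1.1.2]⟩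
    (fun a ih g hg => ⟨(h1.2.2 g hg a ih.1).1, by
      rw [(h1.2.2 g hg a ih.1).2, map_mul, map_mul, ← ih.2, ← h2 g hg]; group⟩) (h1.2.1 w hw)).2

theorem exists_frame [Finite B] : ∃ (φ : SA →* B) (n m τ : B), (∀ x, π (φ x) = ρ x) ∧
    (∀ w, InW1 w → n * φ w * n⁻¹ = φ (nu w)) ∧ (∀ w, InW2 w → m * φ w * m⁻¹ = φ (mu w)) ∧
    Ex φ τ dτ := by
  choose l hl using C.surj
  obtain ⟨ψ, -, -, -, -, hψ⟩ := C.exists_phi (hl _) (hl _) (hl _) (hl _)
  have r1 : ρ (o 112) = ub 0 0 1 := ρ_eq _ (by decide +kernel)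
  have r2 : ρ (o 144) = ub 0 0 ω := ρ_eq _ (by decide +kernel)
  obtain ⟨φ, e1, e2, e3, e4, hφ⟩ := C.exists_phi (a1 := l nb * ψ (o 112) * (l nb)⁻¹)
    (a2 := l nb * ψ (o 144) * (l nb)⁻¹) (b1 := l mb * ψ (o 112) * (l mb)⁻¹)
    (b2 := l mb * ψ (o 144) * (l mb)⁻¹) (by simp [hl, hψ, r1, nb_conj])
    (by simp [hl, hψ, r2, nb_conj]) (by simp [hl, hψ, r1, mb_conj]) (by simp [hl, hψ, r2, mb_conj])
  have hE : ∀ e, InE e → ψ e = φ e := fun e he =>
    sp_ind (P := fun e => ψ e = φ e) (by simp) (fun a ih b hb => by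
      obtain ⟨x, y, rfl⟩ := E_gen b hb
      rw [map_mul, map_mul φ, ih, ← commutatorElement_def, map_commutatorElement,
        map_commutatorElement, C.cm_eq ((hψ x).trans (hφ x).symm) ((hψ y).trans (hφ y).symm)])
      (E_sp e he)
  rw [hE _ (by decide +kernel)] at e1 e2 e3 e4
  have hV : ∀ g v, InV v → g * φ v * g⁻¹ = φ v := fun g v hv => by
    rw [← C.cen ((hφ v).trans (ρ_eq_one.2 hv)), mul_inv_cancel_right]
  have h2 : ∀ {g x y}, g * g = 1 → φ x = l g * φ y * (l g)⁻¹ → l g * φ x * (l g)⁻¹ = φ y :=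
    fun {g x y} hg e => by
      have := C.conj_eq (x := l g * l g) (x' := 1) (by simp [hl, hg]) (φ y)
      rw [one_mul, inv_one, mul_one] at this
      rw [e]
      exact Eq.trans (by group) this
  have hn := act_of_gens (φ := φ) (n := l nb) (P := InW1) (f := nu)
    (gs := [o 96, o 176, o 112, o 144, o 1, o 2]) (by decide +kernel) fun g hg => by
      simp only [List.mem_cons, List.not_mem_nil, or_false] at hg
      rcases hg with rfl | rfl | rfl | rfl | rfl | rfl
      exacts [(hV _ _ (by decide +kernel)).trans (congrArg φ (by decide +kernel)),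
        (hV _ _ (by decide +kernel)).trans (congrArg φ (by decide +kernel)),
        e1.symm.trans (congrArg φ (by decide +kernel)),
        e2.symm.trans (congrArg φ (by decide +kernel)),
        (h2 nb_sq e1).trans (congrArg φ (by decide +kernel)),
        (h2 nb_sq e2).trans (congrArg φ (by decide +kernel))]
  have hm := act_of_gens (φ := φ) (n := l mb) (P := InW2) (f := mu)
    (gs := [o 96, o 176, o 112, o 144, o 4, o 8]) (by decide +kernel) fun g hg => by
      simp only [List.mem_cons, List.not_mem_nil, or_false] at hg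
      rcases hg with rfl | rfl | rfl | rfl | rfl | rfl
      exacts [(hV _ _ (by decide +kernel)).trans (congrArg φ (by decide +kernel)),
        (hV _ _ (by decide +kernel)).trans (congrArg φ (by decide +kernel)),
        e3.symm.trans (congrArg φ (by decide +kernel)),
        e4.symm.trans (congrArg φ (by decide +kernel)),
        (h2 mb_sq e3).trans (congrArg φ (by decide +kernel)),
        (h2 mb_sq e4).trans (congrArg φ (by decide +kernel))]
  have ht : Ind φ (l tb) dτ := fun x => by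
    obtain ⟨v, hv, e⟩ := C.mem_range hφ (g := l tb * φ x * (l tb)⁻¹) (x := act dτ x) (by
      rw [map_mul, map_mul, map_inv, hl, hφ, ρ_eq x ⟨rfl, rfl, rfl⟩, tb_conj]
      exact (ρ_eq _ ((by decide +kernel : ∀ x, cA (act dτ x) = ω * cA x ∧ cB (act dτ x) = ω * cB x ∧
        cC (act dτ x) = (ω + 1) * cC x) x)).symm)
    exact ⟨v, V_E v hv, e⟩
  have h3 : ∀ {g x y}, tb * g * tb = g → InE y → φ x = l g * φ y * (l g)⁻¹ →
      l tb * φ x * (l tb)⁻¹ = l g * φ (act dτ⁻¹ y) * (l g)⁻¹ := fun {g x y} hg hy e => by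
    have := C.conj_eq (x := l tb * l g) (x' := l g * (l tb)⁻¹)
      (by simp [hl, eq_mul_inv_iff_mul_eq, hg]) (φ y)
    rw [← ht.inv.onE hy, e]
    calc _ = l tb * l g * φ y * (l tb * l g)⁻¹ := by group
      _ = _ := by rw [this]; group
  refine ⟨φ, _, _, l tb, hφ, hn, hm, ind_of_genB genA (by simp [act_one]) fun a ih g hg => ?_⟩
  have h4 : l tb * φ g * (l tb)⁻¹ = φ (act dτ g) := by
    simp only [List.mem_cons, List.not_mem_nil, or_false] at hg
    rcases hg with rfl | rfl | rfl | rfl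
    exacts [(h3 tb_nb (by decide +kernel) e1).trans ((hn _ (by decide +kernel)).trans
        (congrArg φ (by decide +kernel))),
      (h3 tb_nb (by decide +kernel) e2).trans ((hn _ (by decide +kernel)).trans
        (congrArg φ (by decide +kernel))),
      (h3 tb_mb (by decide +kernel) e3).trans ((hm _ (by decide +kernel)).trans
        (congrArg φ (by decide +kernel))),
      (h3 tb_mb (by decide +kernel) e4).trans ((hm _ (by decide +kernel)).trans
        (congrArg φ (by decide +kernel)))]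
  rw [act_mul, map_mul, map_mul, ← ih, ← h4]; group

end Cov

end CfsgLib.StdR2
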