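import Cfsg.Agent.Lib.StdR2.HeEx
import Cfsg.Agent.Lib.SylT.L5d

/-! S1747: the Sylow 2-subgroup is of type `L₅(2)`. -/

set_option autoImplicit false
set_option Elab.async false
set_option synthInstance.maxSize 100000
set_option maxRecDepth 100000

namespace CfsgLib.StdR2

open Subgroup Cfsg CfsgLib.Tech CfsgLib.W2 CfsgLib.W2.TG CfsgLib.SylT

/-- the element with the same matrix -/
noncomputable def tl (x : TL) : SM := MOrb.frc x.v fun v =>
  o (v % 8 * 16 + v / 8 % 2 + v / 16 % 2 * 128 + v / 32 % 2 * 2) * o (v / 64 % 2 * 4) *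
    o (v / 128 % 4 * 256) * o (v / 512 * 8)

/-- the isomorphism of the two models -/
noncomputable def tlH : TL →* SM := homOf TL.gen4 tl (by decide +kernel) (by decide +kernel)

theorem tlH_inj : Function.Injective tlH := TL.inj_of (by decide +kernel : tl TL.z ≠ 1)

variable {G : Type*} [Group G] [Finite G] [IsSimpleGroup G] {A : Subgroup G} {φ : SA →* G}
  {n m τ s t : G}

theorem Fr2.sl (F : Fr2 A φ n m τ s t) : TL.SL (F.Phi.comp tlH) :=
  have h := F.Phi_inj.comp tlH_inj
  ⟨h, F.sylG.of_card_le (F.sylG.pgroup.to_le (grange_le fun _ => ⟨_, rfl⟩)) le_top (by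
    rw [F.card_S, ← Nat.card_congr (MonoidHom.ofInjective h).toEquiv, TL.card_T])⟩

end CfsgLib.StdR2
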