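import Cfsg.Agent.Lib.StdR2.HeCov
import Cfsg.Prelude.Def_Local

/-! The frame of a standard subgroup `2² · L₃(4)`. -/

set_option autoImplicit false
set_option Elab.async false
set_option synthInstance.maxSize 100000

namespace CfsgLib.StdR2

open Subgroup Cfsg CfsgLib.W2 CfsgLib.W2.TG CfsgLib.Tech CfsgLib.Classical

variable {G : Type*} [Group G] {A : Subgroup G} {φ ψ : SA →* G} {n m τ g : G} {d : DD}

/-- coordinates in the standard subgroup -/
structure Fr (A : Subgroup G) (φ : SA →* G) (n m τ : G) : Prop where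
  inj : Function.Injective φ
  mem : ∀ x, φ x ∈ A
  n_mem : n ∈ A
  m_mem : m ∈ A
  τ_mem : τ ∈ A
  cen : ∀ g ∈ A, g ∈ centralizer (A : Set G) ↔ ∃ v, InV v ∧ φ v = g
  nu : ∀ w, InW1 w → n * φ w * n⁻¹ = φ (nu w)
  mu : ∀ w, InW2 w → m * φ w * m⁻¹ = φ (mu w)
  tau : Ex φ τ dτ
  cent : ∀ e, InE e → ¬ InV e → ∀ c ∈ A, c * φ e = φ e * c → c ∈ φ.range
  syl : IsSylowIn 2 φ.range A
  f1 : ∀ h ∈ normalizer (A : Set G), Ind φ h 1 → ∃ s, (φ s)⁻¹ * h ∈ centralizer (A : Set G)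
  tight : IsTightlyEmbedded (centralizer (A : Set G))
  norm : normalizer (A : Set G) = normalizer (centralizer (A : Set G) : Set G)
  card : Nat.card A = 80640

theorem exists_fr [Finite G] (hL : IsStandardSubgroup A) {F : Type*} [Field F] [Fintype F]
    (hF : Fintype.card F = 4) (h4 : IsKleinFour (center A))
    (e : A ⧸ center A ≃* Matrix.ProjectiveSpecialLinearGroup (Fin 3) F) :
    ∃ φ n m τ, Fr A φ n m τ := by
  let e' := e.trans (pslMapEquiv (FiniteField.ringEquivOfCardEq (hF.trans card_GF4.symm)))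
  let π : A →* PP := e'.toMonoidHom.comp (QuotientGroup.mk' _)
  have C : Cov π := ⟨e'.surjective.comp (QuotientGroup.mk'_surjective _), by
    rw [← MonoidHom.comap_ker, (MonoidHom.ker_eq_bot_iff _).2 e'.injective, MonoidHom.comap_bot,
      QuotientGroup.ker_mk'], fun z hz => congrArg Subtype.val (IsKleinFour.mul_self (⟨z, hz⟩ : center A)),
    h4.card_four, hL.1.1.commutator_eq_top⟩
  obtain ⟨φ, n, m, τ, hφ, hn, hm, ht⟩ := C.exists_frame
  have hc : Nat.card A = 80640 := by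
    rw [card_eq_card_quotient_mul_card_subgroup (center A), Nat.card_congr e.toEquiv,
      Mathieu.card_psl3_of_card hF, h4.card_four]
  have hi : Function.Injective (A.subtype.comp φ) := A.subtype_injective.comp (C.inj hφ)
  have hr : Nat.card (A.subtype.comp φ).range = 256 :=
    (Nat.card_congr (MonoidHom.ofInjective hi).toEquiv).symm.trans card_eq
  have hle : (A.subtype.comp φ).range ≤ A := by rintro _ ⟨x, rfl⟩; exact (φ x).2
  refine ⟨A.subtype.comp φ, n, m, τ, hi, fun x => (φ x).2, n.2, m.2, τ.2, fun g hg => ⟨fun h => ?_, ?_⟩,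
    fun w hw => congrArg Subtype.val (hn w hw), fun w hw => congrArg Subtype.val (hm w hw),
    fun w => congrArg Subtype.val (ht w), fun x hx hv c hc h => ?_,
    ⟨hle, IsPGroup.of_card (n := 8) hr, fun h => ?_⟩, fun h hh H => ?_, hL.2.1, hL.2.2.2, hc⟩
  · obtain ⟨v, hv, e⟩ := C.cen_le hφ (z := ⟨g, hg⟩)
      (C.ker.ge (mem_center_iff.2 fun y => Subtype.ext (h y y.2)))
    exact ⟨v, hv, congrArg Subtype.val e⟩
  · rintro ⟨v, hv, rfl⟩ y hy
    exact congrArg Subtype.val (C.cen ((hφ v).trans (ρ_eq_one.2 hv)) ⟨y, hy⟩).symm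
  · have h1 := (by decide +kernel : ∀ x, InE x → ¬ InV x → cA x = 0 ∧ cB x = 0 ∧ cC x ≠ 0) x hx hv
    have h2 := congrArg π (Subtype.ext h : (⟨c, hc⟩ : A) * φ x = φ x * ⟨c, hc⟩)
    rw [map_mul, map_mul, hφ, ρ_eq x ⟨h1.1, h1.2.1, rfl⟩, ← mul_inv_eq_iff_eq_mul] at h2
    obtain ⟨a, b, c', e⟩ := cent_ub h1.2.2 h2
    obtain ⟨y, hy⟩ := ρ_surj a b c'
    obtain ⟨v, -, e⟩ := C.mem_range hφ (e.trans hy.symm)
    exact ⟨_, (congrArg Subtype.val e).symm⟩
  · have := card_mul_relIndex' hle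
    rw [hr, hc] at this
    omega
  · obtain ⟨c, hc, h1⟩ := H (o 1)
    obtain ⟨s, hs⟩ := C.aut e' (fun _ => rfl) hφ (A.normalizerMonoidHom ⟨h, hh⟩)
      (fun x hx => Subtype.ext (by simpa [one_act] using H.onE hx)) hc
      (Subtype.ext (by simpa [one_act] using h1))
    refine ⟨s, fun y hy => ?_⟩
    have h2 : h * y * h⁻¹ = φ s * y * (φ s : G)⁻¹ := congrArg Subtype.val (hs ⟨y, hy⟩)
    show y * ((φ s : G)⁻¹ * h) = (φ s : G)⁻¹ * h * y
    rw [mul_assoc _ h, mul_inv_eq_iff_eq_mul.1 h2]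
    group

/-- the frame with `W₁` and `W₂` interchanged -/
noncomputable def sw (φ : SA →* G) : SA →* G := φ.comp (actH π0)

theorem sw_apply (x : SA) : sw φ x = φ (act π0 x) := rfl

theorem π0_π0 : ∀ x, act π0 (act π0 x) = x := by decide +kernel

theorem sw_π0 (x : SA) : φ x = sw φ (act π0 x) := by rw [sw_apply, π0_π0]

theorem sw_range : (sw φ).range = φ.range :=
  le_antisymm (by rintro _ ⟨x, rfl⟩; exact ⟨_, rfl⟩) (by rintro _ ⟨x, rfl⟩; exact ⟨_, (sw_π0 x).symm⟩)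

theorem Ind.swap (h : ∀ x, ψ x = φ (act π0 x)) (H : Ind φ g d) : Ind ψ g (π0 * d * π0) := fun x => by
  obtain ⟨e, he, h1⟩ := H (act π0 x)
  exact ⟨_, E_act π0 e he, by rw [h, h1, h, act_mul, π0_π0, mul_act, mul_act, π0_π0]⟩

theorem Ex.swap (h : ∀ x, ψ x = φ (act π0 x)) (H : Ex φ g d) : Ex ψ g (π0 * d * π0) := fun x => by
  rw [h, H, h, mul_act, mul_act, π0_π0]

theorem π0_facts : ∀ x, (InV x → InV (act π0 x)) ∧
    (InW1 x → InW2 (act π0 x) ∧ mu (act π0 x) = act π0 (nu x)) ∧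
    (InW2 x → InW1 (act π0 x) ∧ nu (act π0 x) = act π0 (mu x)) := by decide +kernel

theorem Fr.symm (F : Fr A φ n m τ) : Fr A (sw φ) m n τ where
  inj := fun x y h => by rw [← π0_π0 x, show act π0 x = act π0 y from F.inj h, π0_π0]
  mem := fun _ => F.mem _
  n_mem := F.m_mem
  m_mem := F.n_mem
  τ_mem := F.τ_mem
  cen := fun g hg => (F.cen g hg).trans
    ⟨fun ⟨v, hv, e⟩ => ⟨_, (π0_facts v).1 hv, (sw_π0 v).symm.trans e⟩,
      fun ⟨v, hv, e⟩ => ⟨_, (π0_facts v).1 hv, e⟩⟩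
  nu := fun w hw => (F.mu _ ((π0_facts w).2.1 hw).1).trans (congrArg φ ((π0_facts w).2.1 hw).2)
  mu := fun w hw => (F.nu _ ((π0_facts w).2.2 hw).1).trans (congrArg φ ((π0_facts w).2.2 hw).2)
  tau := (by decide +kernel : π0 * dτ * π0 = dτ) ▸ F.tau.swap sw_apply
  cent := fun e he hv => sw_range (φ := φ) ▸ F.cent _ (E_act _ e he) fun h =>
    hv (π0_π0 e ▸ (π0_facts _).1 h)
  syl := sw_range (φ := φ) ▸ F.syl
  f1 := fun h hh H => by
    obtain ⟨s, hs⟩ := F.f1 h hh ((by decide +kernel : π0 * 1 * π0 = 1) ▸ H.swap sw_π0)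
    exact ⟨act π0 s, by rwa [← sw_π0]⟩
  tight := F.tight
  norm := F.norm
  card := F.card

end CfsgLib.StdR2
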