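import Cfsg.Agent.Lib.StdR2.HeTh
import Cfsg.Agent.Lib.Held.Models
import Cfsg.Agent.S5607

/-! `G` is neither `SL₅(2)` nor `M₂₄`. -/

set_option autoImplicit false
set_option Elab.async false
set_option synthInstance.maxSize 100000
set_option maxRecDepth 100000

namespace CfsgLib.StdR2

open Subgroup Cfsg CfsgLib.W2 CfsgLib.W2.TG CfsgLib.Tech

theorem cent_M24 {t : M24} (h : orderOf t = 2) :
    Nat.card (centralizer ({t} : Set M24)) ≤ 21504 := by
  have h2 : orderOf t.1 = 2 := (Subgroup.orderOf_coe t).trans h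
  by_cases h0 : ∀ p, t.1 p = p → False
  · have := (Cfsg.Agent.S5607.result t.1 t.2 h2 h0).1
    refine (Nat.card_le_card_of_injective (β := {c : Equiv.Perm GolayPt // c ∈ M24 ∧ c * t = t * c})
      (fun c => ⟨c.1.1, c.1.2, congrArg Subtype.val (mem_centralizer_singleton_iff.1 c.2)⟩)
      fun _ _ e => Subtype.ext (Subtype.ext (by simpa using e))).trans (by omega)
  push Not at h0
  obtain ⟨p, hp, -⟩ := h0
  obtain ⟨r, hr, e1⟩ := M24E.conj_q2a t.2 h2 (Finset.ne_empty_of_mem (M24E.mem_fixS.2 hp))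
  obtain ⟨q, hq, e2⟩ := M24E.conj_q2a Mathieu.z2A.2
    ((Subgroup.orderOf_coe _).trans Mathieu.orderOf_z2A) (by
      obtain ⟨p, hp⟩ : ∃ p, p ∈ Golay.ofMask Mathieu.oct0 := by decide +kernel
      exact Finset.ne_empty_of_mem (M24E.mem_fixS.2 ((Mathieu.z2A_fix_iff p).2 hp)))
  have e : t = (⟨r, hr⟩ * ⟨q, hq⟩⁻¹ : M24) * Mathieu.z2A * (⟨r, hr⟩ * ⟨q, hq⟩⁻¹ : M24)⁻¹ :=
    Subtype.ext (by simp only [coe_mul, coe_inv, ← e1, ← e2]; group)
  rw [← Mathieu.card_cent2A, e]
  exact ((congrArg (fun K : Subgroup M24 => Nat.card K) (cj_Cx _ _).symm).trans (card_cj _ _)).le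

variable {G : Type*} [Group G] [Finite G] {A : Subgroup G} {φ : SA →* G}
  {n m τ : G}

omit [Finite G] in
theorem Fr.not_M24 (F : Fr A φ n m τ) : ¬ Nonempty (G ≃* M24) := fun ⟨e⟩ => by
  have hv : InV (o 96) := by decide +kernel
  have h1 := cent_M24 ((e.orderOf_eq _).trans (F.ord (V_sq _ hv) (by decide +kernel)))
  have h2 : A.map e.toMonoidHom ≤ centralizer {e (φ (o 96))} := by
    rintro _ ⟨a, ha, rfl⟩
    exact mem_centralizer_singleton_iff.2 (by
      simpa using congrArg e (Fr.comm_K (F.V_mem hv) ha))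
  have h3 := card_le_of_le h2
  rw [card_map_of_injective e.injective, F.card] at h3
  omega

theorem Fr.not_SL5 [IsSimpleGroup G] (F : Fr A φ n m τ) : ¬ Nonempty (G ≃* Held.SL5) := fun ⟨e⟩ => by
  obtain ⟨g, H⟩ := F.gam_NS (d := o 4) (by decide +kernel)
  have hg := F.H_of_fix H.ind (by decide +kernel)
  have h1 : A.index = 124 := by
    have := A.card_mul_index
    rw [F.card, Nat.card_congr e.toEquiv, Held.card_SL5] at this
    omega
  obtain ⟨k, hk⟩ := relIndex_dvd_index_of_le (le_normalizer (H := A))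
  have h2 : g ^ 124 ∈ A := by
    have := pow_index_mem (H := A.subgroupOf (HH A)) ⟨g, hg⟩
    rw [← h1, hk, pow_mul]
    exact pow_mem this k
  exact absurd ((F.cenV_iff (H.ind.pow 124)).1 (F.cenV_of_mem h2)) (by decide +kernel)

end CfsgLib.StdR2
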