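import Cfsg.Agent.Lib.StdR2.HeSyl
import Cfsg.Agent.Lib.Transfer.Thompson

/-! The image of `SM` is a Sylow 2-subgroup of `G`; fusion of involutions. -/

set_option autoImplicit false
set_option Elab.async false
set_option synthInstance.maxSize 100000
set_option maxRecDepth 100000

namespace CfsgLib.StdR2

open Subgroup Cfsg CfsgLib.W2 CfsgLib.W2.TG CfsgLib.Tech

variable {G : Type*} [Group G] {A P : Subgroup G} {φ : SA →* G} {n m τ s t g y : G} {d : DD}

/-- first component -/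
noncomputable def fs (p : SM) : SA := o (Nat.mod p.v 256)
/-- second component -/
noncomputable def sn (p : SM) : ℕ := Nat.div p.v 256
/-- second component -/
noncomputable def dkD (k : ℕ) : DD := o (dk k)
/-- the inclusion -/
noncomputable def em (x : SA) : SM := o x.v
/-- the four-group generated by `s`, `t` -/
def sk (s t : G) : ℕ → G
  | 0 => 1
  | 1 => s
  | 2 => t
  | _ => s * t

theorem genS : genB ([o 1, o 2, o 4, o 8, o 256, o 512] : List SM) 3 = true := by decide +kernel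
theorem sm_gen : ∀ g ∈ ([o 1, o 2, o 4, o 8, o 256, o 512] : List SM), ∀ a,
    fs (a * g) = fs a * act (dkD (sn a)) (fs g) ∧ sn (a * g) = sn a ^^^ sn g := by decide +kernel
theorem sm_facts : ∀ p, sn p < 4 ∧ bit 0xc3 (dkD (sn p)).v = true ∧ (dkD (sn p) = 1 → sn p = 0) ∧
    (dkD (sn p) = σ1 → sn p = 1) ∧ (sn p = 0 → fs p = 1 → p = 1) := by decide +kernel
theorem em_facts : ∀ x, fs (em x) = x ∧ sn (em x) = 0 := by decide +kernel
theorem d8_facts : ∀ d : DD, (D8 (d * σ1 * d⁻¹) → D8 (d * σ2 * d⁻¹) → D8 d) ∧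
    (D8 d → act d (o 16) = o 16 ∧ (bit 0xc3 d.v = true ∨ bit 0xc3 (d * π0).v = true) ∧
      ¬ (bit 0xc3 d.v = true ∧ bit 0xc3 (d * π0).v = true)) ∧
    (bit 0xc3 d.v = true → D8 d ∧ ∃ i : Fin 4, d * dkD (sn (o (256 * i))) = 1) := by decide +kernel
theorem W_comm : ∀ x : SA, InW1 x → ∀ w, InW1 w → x * w * x⁻¹ = w := by decide +kernel

/-- the dihedral group of order 8 -/
noncomputable def D8U : Subgroup DD := sub D8 (by decide +kernel)

/-- conjugate to one of the two representatives -/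
def Fus (A : Subgroup G) (φ : SA →* G) (y : G) : Prop :=
  ∃ g ∈ A ⊔ normalizer (φ.range : Set G), g * y * g⁻¹ = φ (o 96) ∨ g * y * g⁻¹ = φ (o 16)

theorem Fus.of_conj (hg : g ∈ A ⊔ normalizer (φ.range : Set G)) (h : Fus A φ (g * y * g⁻¹)) :
    Fus A φ y := by
  obtain ⟨c, hc, h⟩ := h
  exact ⟨c * g, mul_mem hc hg, by simpa [mul_assoc] using h⟩

theorem Fus.of_sw (h : Fus A (sw φ) y) : Fus A φ y := by
  rwa [Fus, sw_range, sw_apply, sw_apply, show act π0 (o 96) = o 96 by decide +kernel,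
    show act π0 (o 16) = o 16 by decide +kernel] at h

namespace Fr

variable [Finite G] (F : Fr A φ n m τ)
include F

theorem mem_of_A (hg : g ∈ A) (H : Ind φ g d) (h : g * g = 1) : g ∈ φ.range :=
  F.syl.le_of_normalizes (isPGroup_zpowers_of_pow (k := 1) (by rw [pow_one, pow_two, h]))
    (zpowers_le.2 hg) (zpowers_le.2 H.mem_norm) (mem_zpowers g)

variable [IsSimpleGroup G]

theorem mem_A (hg : g ∉ HH A) (h : (∃ v, InV v ∧ v ≠ 1 ∧ CenV φ (g * φ v * g⁻¹)) ∨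
    ∀ w, InV w → g * φ w * g⁻¹ ∈ HH A) {w : SA} (hw : InV w) : g * φ w * g⁻¹ ∈ A := by
  obtain ⟨a, ha, h1⟩ := F.GR2 hg h
  obtain ⟨e, -, h2⟩ := h1 w hw
  convert A.mul_mem (A.mul_mem (A.inv_mem ha) (h2 ▸ F.mem e)) ha using 1
  group

theorem VS (h : ∀ v, InV v → ∃ d, Ind φ (g * φ v * g⁻¹) d) {v : SA} (hv : InV v) :
    g * φ v * g⁻¹ ∈ φ.range := by
  by_cases hg : g ∈ HH A
  · exact (F.conj_V hg hv).imp fun _ h => h.2
  have hsq : ∀ w, InV w → g * φ w * g⁻¹ * (g * φ w * g⁻¹) = 1 := fun w hw => by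
    rw [conj_mul, ← map_mul, V_sq w hw]; simp
  by_cases h1 : ∀ w, InV w → g * φ w * g⁻¹ ∈ HH A
  · exact (h v hv).elim fun d H => F.mem_of_A (F.mem_A hg (Or.inr h1) hv) H (hsq v hv)
  push Not at h1
  obtain ⟨w, hw, h1⟩ := h1
  obtain ⟨f, H⟩ := h w hw
  have hf := mt (F.H_of_fix H) h1
  obtain ⟨u, hu, u1, d, H', hd⟩ : ∃ u, InV u ∧ u ≠ 1 ∧ ∃ d, Ind φ (g * φ u * g⁻¹) d ∧ Fix d := by
    obtain ⟨u, hu, u1, u2, u3⟩ := (by decide +kernel : ∀ w, InV w → ∃ u, InV u ∧ u ≠ 1 ∧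
      InV (u * w) ∧ u * w ≠ 1) w hw
    obtain ⟨d, H'⟩ := h u hu
    by_cases hd : Fix d
    · exact ⟨u, hu, u1, d, H', hd⟩
    · exact ⟨_, u2, u3, _, by rw [map_mul, ← conj_mul]; exact H'.mul H,
        (by decide +kernel : ∀ d f : DD, ¬ Fix d → ¬ Fix f → Fix (d * f)) d f hd hf⟩
  obtain ⟨r, hr, r1, r2, -⟩ := fix_V d hd (F.sq_of_fix H' hd (j := 1) (by
    rw [pow_one, pow_two, hsq u hu]))
  have h2 := H'.onE (V_E r hr)
  rw [r2] at h2
  obtain ⟨w', h3, h4⟩ := F.conj_V (F.H_of_conj (g := g⁻¹ * φ r * g) hu u1 (by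
    convert F.V_mem hu using 1
    calc _ = g⁻¹ * φ r * (g * φ u * g⁻¹ * (φ r)⁻¹ * (g * φ u * g⁻¹)⁻¹) * g * φ u := by group
      _ = _ := by rw [← conj_inv, h2]; group)) hw
  have h5 : g * φ (w' * w⁻¹) * g⁻¹ = φ (r * act f r⁻¹) := by
    rw [map_mul φ r, ← H.onE (E_inv (V_E r hr)), map_mul, h4, map_inv, map_inv]; group
  refine absurd (le_normalizer (F.mem_A hg (Or.inl ⟨_, VV.mul_mem h3 (VV.inv_mem hw), fun e => ?_,
    fun x _ => ?_⟩) hw)) h1
  · rw [e, map_one, mul_one, mul_inv_cancel, eq_comm, map_eq_one_iff φ F.inj, act_inv,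
      mul_inv_eq_one] at h5
    exact r1 (VT r hr (h5 ▸ (fix_facts f r hr).2.2 hf))
  · rw [h5, ← map_mul, ← map_mul, E_cen _ (E_mul (V_E r hr) (E_act f _ (E_inv (V_E r hr))))]

theorem gam_NS (h : NS d) : d ∈ Gam φ :=
  mem_of_sp (gs := [σ1, σ2, dτ]) (D := 4) (fun g hg => by
    simp only [List.mem_cons, List.not_mem_nil, or_false] at hg
    rcases hg with rfl | rfl | rfl
    exacts [F.gam_σ.1, F.gam_σ.2, ⟨τ, F.tau⟩]) (by revert d; decide +kernel)

theorem fus0 {x : SA} (h : x * x = 1) (h1 : x ≠ 1) : Fus A φ (φ x) := by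
  have k : ∀ e, InE e → e ≠ 1 → Fus A φ (φ e) := fun e he e1 => by
    obtain ⟨d, h2, h3⟩ := (by decide +kernel : ∀ e, InE e → e ≠ 1 → ∃ d, NS d ∧
      (act d e = o 96 ∨ act d e = o 16)) e he e1
    obtain ⟨g, H⟩ := F.gam_NS h2
    exact ⟨g, mem_sup_right H.ind.mem_norm, h3.imp (fun h => (H e).trans (congrArg φ h))
      fun h => (H e).trans (congrArg φ h)⟩
  by_cases hv : InV x
  · exact k x (V_E x hv) h1
  · obtain ⟨a, ha, e, h2, h3, -, h4⟩ := F.conj_E h hv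
    exact Fus.of_conj (mem_sup_left ha) (h4 ▸ k e h2 fun h => h3 (h ▸ VV.one_mem))

end Fr

namespace Fr2

variable (F : Fr2 A φ n m τ s t)
include F

theorem ex_sk {k : ℕ} (hk : k < 4) : Ex φ (sk s t k) (dkD k) := by
  interval_cases k
  exacts [(by decide +kernel : (1 : DD) = dkD 0) ▸ fun x => by simp [sk, one_act], F.e1, F.e2,
    (by decide +kernel : σ1 * σ2 = dkD 3) ▸ F.e1.mul F.e2]

theorem sk_xor {i j : ℕ} (hi : i < 4) (hj : j < 4) : sk s t (i ^^^ j) = sk s t i * sk s t j := by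
  have h1 : ∀ x, s * (s * x) = x := fun x => by rw [← mul_assoc, F.q1, one_mul]
  have h2 : ∀ x, t * (s * x) = s * (t * x) := fun x => by rw [← mul_assoc, ← F.cm, mul_assoc]
  interval_cases i <;> interval_cases j <;> simp [sk, mul_assoc, h1, h2, F.q1, F.q2, ← F.cm]

/-- the embedding of the model -/
noncomputable def Phi : SM →* G := homOf genS (fun p => φ (fs p) * sk s t (sn p))
  (by rw [show fs 1 = 1 by decide +kernel, show sn 1 = 0 by decide +kernel]; simp [sk])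
  fun g hg a => by
    rw [(sm_gen g hg a).1, (sm_gen g hg a).2, F.sk_xor (sm_facts a).1 (sm_facts g).1, map_mul,
      ← F.ex_sk (sm_facts a).1]
    group

theorem Phi_apply (p : SM) : F.Phi p = φ (fs p) * sk s t (sn p) := rfl

theorem Phi_em (x : SA) : F.Phi (em x) = φ x := by
  rw [Phi_apply, (em_facts x).1, (em_facts x).2]; exact mul_one _

theorem Phi_s : F.Phi (o 256) = s := by
  rw [Phi_apply, show fs (o 256) = 1 by decide +kernel, map_one, one_mul]; rfl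

theorem Phi_t : F.Phi (o 512) = t := by
  rw [Phi_apply, show fs (o 512) = 1 by decide +kernel, map_one, one_mul]; rfl

theorem ind_Phi (p : SM) : Ind φ (F.Phi p) (dkD (sn p)) :=
  one_mul (dkD (sn p)) ▸ (Ind.of_mem φ _).mul (F.ex_sk (sm_facts p).1).ind

theorem Phi_inj : Function.Injective F.Phi := (injective_iff_map_eq_one _).2 fun p h => by
  have h1 := (sm_facts p).2.2.1 ((F.ind_Phi p).unique F.inj (h ▸ Ind.one φ))
  rw [Phi_apply, h1] at h
  exact (sm_facts p).2.2.2.2 h1 (F.inj (by simpa [sk] using h))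

theorem range_le : φ.range ≤ F.Phi.range := by rintro _ ⟨x, rfl⟩; exact ⟨_, F.Phi_em x⟩

theorem card_S : Nat.card F.Phi.range = 1024 :=
  (Nat.card_congr (MonoidHom.ofInjective F.Phi_inj).toEquiv).symm.trans card_eq

theorem le_pre : F.Phi.range ≤ pre φ U0 := by
  rintro _ ⟨p, rfl⟩; exact ⟨_, (sm_facts p).2.1, F.ind_Phi p⟩

variable [Finite G] [IsSimpleGroup G]

theorem mem_S (hP : IsPGroup 2 P) (hle : F.Phi.range ≤ P) (hg : g ∈ P) (H : Ind φ g d)
    (hd : d ∈ U0) : g ∈ F.Phi.range := by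
  obtain ⟨i, hi⟩ := ((d8_facts d).2.2 hd).2
  obtain ⟨j, hj⟩ := isPGroup_iff_mem.1 hP _ (mul_mem hg (hle ⟨o (256 * i), rfl⟩))
  exact (mul_mem_cancel_right (MonoidHom.mem_range.2 ⟨_, rfl⟩)).1
    (F.range_le (F.two_mem (hi ▸ H.mul (F.ind_Phi _)) hj))

theorem sylS : IsSylowIn 2 F.Phi.range (pre φ U0) :=
  isSylowIn_of_maximal (IsPGroup.of_card (n := 10) F.card_S) F.le_pre fun _ hR h1 h2 _ hg =>
    (h2 hg).elim fun _ h => F.mem_S hR h1 hg h.2 h.1

theorem gen_norm (h : ∀ y ∈ φ.range, ∃ d, Ind φ (g * y * g⁻¹) d) : ∃ d, Ind φ g d := by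
  have k : ∀ {c P f}, Ac φ P c f → (∀ w, InV w → P (act σ1 w)) → ∀ v, InV v →
      g * φ (f (act σ1 v)) * g⁻¹ ∈ φ.range := fun {c P f} H h1 v hv => by
    have h2 : ∀ w, InV w → g * c * s * φ w * (g * c * s)⁻¹ = g * φ (f (act σ1 w)) * g⁻¹ :=
      fun w hw => by rw [← (H _ (h1 w hw)).2, ← F.e1]; group
    exact h2 v hv ▸ F.VS (fun w hw => h2 w hw ▸ h _ ⟨_, rfl⟩) hv
  refine exists_ind F.inj (ind_of_genB genA (by simp) fun a ih x hx => ?_)
  rw [map_mul, ← conj_mul]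
  refine mul_mem ih ?_
  rcases (by decide +kernel : ∀ x ∈ ([o 1, o 2, o 4, o 8] : List SA), ∃ v, InV v ∧
    (x = StdR2.nu (act σ1 v) ∨ x = StdR2.mu (act σ1 v))) x hx with ⟨v, hv, rfl | rfl⟩
  exacts [k F.acn (by decide +kernel) v hv, k F.acm (by decide +kernel) v hv]

theorem sylP (hP : IsSylowIn 2 P (pre φ D8U)) (hle : F.Phi.range ≤ P) : IsSylowIn 2 P ⊤ := by
  by_contra h
  obtain ⟨R, hR, h1, -, h2⟩ := exists_lt_pgroup_normalizer hP.pgroup le_top h
  refine h1.ne' (hP.eq_of_le hR h1.le fun r hr => ?_)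
  have k : ∀ y ∈ F.Phi.range, ∃ d, D8 d ∧ Ind φ (r * y * r⁻¹) d := fun y hy =>
    hP.le (conj_mem_of_mem_normalizer (h2 hr) (hle hy))
  obtain ⟨d, H⟩ := F.gen_norm fun y hy => (k y (F.range_le hy)).imp fun _ h => h.2
  obtain ⟨d1, a1, b1⟩ := k s ⟨_, F.Phi_s⟩
  obtain ⟨d2, a2, b2⟩ := k t ⟨_, F.Phi_t⟩
  exact ⟨d, (d8_facts d).1 (b1.unique F.inj (H.conj F.e1.ind) ▸ a1)
    (b2.unique F.inj (H.conj F.e2.ind) ▸ a2), H⟩

theorem fus1 (H : Ind φ y σ1) (h : y * y = 1) : Fus A φ y := by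
  obtain ⟨c, ⟨f, hf, H'⟩, p, hp⟩ := F.sylS.exists_conj_mem
    ⟨σ1, show bit _ _ = true by decide +kernel, H⟩
    (isPGroup_zpowers_of_pow (k := 1) (by rw [pow_one, pow_two, h]))
  refine Fus.of_conj (mem_sup_right H'.mem_norm) ?_
  have h1 := H'.conj H
  have h2 : F.Phi p * F.Phi p = 1 := by rw [hp, conj_mul, h]; simp
  rw [(U0_facts σ1 (by decide +kernel)).2 f hf, ← hp] at h1
  rw [← hp]
  have hk := (sm_facts p).2.2.2.1 ((F.ind_Phi p).unique F.inj h1)
  rw [Phi_apply, hk] at h1 h2 ⊢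
  generalize fs p = x at h1 h2
  change φ x * s * (φ x * s) = 1 at h2
  change Fus A φ (φ x * s)
  obtain ⟨i, hi⟩ := (by decide +kernel : ∀ x, x * act σ1 x = 1 → ∃ i : Fin 4,
    InW2 (o i * x * act σ1 (o i)⁻¹)) x (F.inj (by
      rw [map_mul, ← F.e1, map_one, ← h2, inv_eq_of_mul_eq_one_left F.q1]; group))
  have a1 := F.e1.ac (P := InW2) (by decide +kernel)
  have a2 := ac_mem (P := InW2) φ (o 1) (by decide +kernel)
  have a3 := ((F.acm.mul a2).mul a1).mul F.acm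
  have a4 := (a3.mul a1).mul (((F.acm'.mul (a1.inv (by decide +kernel))).mul
    (a2.inv (by decide +kernel))).mul F.acm')
  have hc : m * φ (o 1) * s * m ∈ A ⊔ normalizer (φ.range : Set G) :=
    mul_mem (mul_mem (mem_sup_left (mul_mem F.m_mem (F.mem _))) (mem_sup_right F.e1.ind.mem_norm))
      (mem_sup_left F.m_mem)
  rw [show m⁻¹ * s⁻¹ * (φ (o 1))⁻¹ * m⁻¹ = (m * φ (o 1) * s * m)⁻¹ by group] at a4
  generalize m * φ (o 1) * s * m = c at a3 a4 hc
  obtain ⟨z, hz⟩ := F.two_mem (F.cent_E fun e he => (a4 e (E_W e he).2).2.trans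
    (congrArg φ (by revert e; decide +kernel))) (j := 1) (by
      rw [pow_one, pow_two, conj_mul, F.q1]; simp)
  obtain ⟨x', e⟩ : ∃ x', φ x' = c * φ (o i) * (φ x * s) * (c * φ (o i))⁻¹ :=
    ⟨_ * z, by rw [map_mul, ← (a3 _ hi).2, hz, map_mul, map_mul, ← F.e1, map_inv]; group⟩
  refine Fus.of_conj (mul_mem hc (mem_sup_left (F.mem _))) (e ▸ F.fus0 (F.inj ?_) fun h => ?_)
  · rw [map_mul, e, conj_mul, h2]; simp
  · rw [h, map_one, eq_comm, conj_eq_one_iff] at e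
    exact absurd (h1.unique F.inj (e ▸ Ind.one φ)) (by decide +kernel)

theorem fus (hy : y ∈ F.Phi.range) (h : y * y = 1) (h1 : y ≠ 1) : Fus A φ y := by
  obtain ⟨p, rfl⟩ := hy
  have H := F.ind_Phi p
  have h2 := (sm_facts p).1
  rw [Phi_apply] at *
  generalize fs p = x at *
  generalize sn p = k at *
  interval_cases k
  · simp only [sk, mul_one] at *
    exact F.fus0 (F.inj (by rw [map_mul, h, map_one])) fun e => h1 (by rw [e, map_one])
  · exact F.fus1 H h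
  · exact (F.symm.fus1 ((by decide +kernel : π0 * dkD 2 * π0 = σ1) ▸ H.swap sw_apply) h).of_sw
  have e3 := F.ex_sk h2
  have q3 := (F.sk_xor h2 h2).symm
  change _ = (1 : G) at q3
  obtain ⟨i, hi⟩ := (by decide +kernel : ∀ x, x * act (dkD 3) x = 1 → ∃ i : Fin 4,
    InW1 (bb i * x * act (dkD 3) (bb i)⁻¹)) x (F.inj (by
      rw [map_mul, ← e3, map_one, ← h, inv_eq_of_mul_eq_one_left q3]; group))
  have a1 := F.e1.ac (P := InW1) (by decide +kernel)
  have a2 := ac_mem (P := InW1) φ (o 4) (by decide +kernel)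
  have a3 := ac_mem (P := InW1) φ (o 8) (by decide +kernel)
  have a4 : Ac φ InW1 (φ _) id := fun w hw => ⟨hw, by
    rw [← map_mul, ← map_inv, ← map_mul, W_comm _ hi w hw]; rfl⟩
  have a5 := (((((((F.acn.mul a2).mul a1).mul F.acn).mul a3).mul a4).mul
    (e3.ac (by decide +kernel))).mul ((((a3.inv (by decide +kernel)).mul F.acn').mul
      (a1.inv (by decide +kernel))).mul (a2.inv (by decide +kernel)))).mul F.acn'
  have hc : n * φ (o 4) * s * n * φ (o 8) * φ (bb i) ∈ A ⊔ normalizer (φ.range : Set G) :=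
    mul_mem (mul_mem (mul_mem (mul_mem (mem_sup_left (mul_mem F.n_mem (F.mem _)))
      (mem_sup_right F.e1.ind.mem_norm)) (mem_sup_left F.n_mem)) (mem_sup_left (F.mem _)))
      (mem_sup_left (F.mem _))
  refine Fus.of_conj hc (F.fus1 (F.ind_E fun e he => Eq.trans ?_ ((a5 e (E_W e he).1).2.trans
    (congrArg φ (by revert e; decide +kernel)))) (by rw [conj_mul, h]; simp))
  rw [map_mul, map_mul, ← e3, map_inv]
  group

end Fr2

end CfsgLib.StdR2
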