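import Cfsg.Agent.Lib.StdR2.HeFrame
import Cfsg.Agent.Lib.StdR2.Gen
import Cfsg.Agent.Lib.W2.Tools
import Cfsg.Agent.Lib.CIT.Basic

/-! `V` is a Sylow subgroup of `C(A)`, and the conjugates of `V` meeting `N(A)`. -/

set_option autoImplicit false
set_option Elab.async false
set_option synthInstance.maxSize 100000

namespace CfsgLib.StdR2

open Subgroup Cfsg CfsgLib.W2 CfsgLib.W2.TG CfsgLib.Tech

variable {G : Type*} [Group G] [Finite G] {A T : Subgroup G} {φ : SA →* G} {n m τ g : G} {d : DD}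

/-- the centraliser -/
abbrev KK (A : Subgroup G) : Subgroup G := centralizer (A : Set G)
/-- the normaliser -/
abbrev HH (A : Subgroup G) : Subgroup G := normalizer (A : Set G)

/-- `d` centralises `V` -/
abbrev CV (d : DD) : Prop := act d (o 96) = o 96 ∧ act d (o 176) = o 176

theorem V_sq : ∀ v : SA, InV v → v * v = 1 := fun v hv => E_sq v (V_E v hv)
theorem fix_facts : ∀ d : DD, ∀ v, InV v → (Fix d → InV (act d v)) ∧ (CV d → act d v = v) ∧
    (¬ Fix d → InT (act d v)) := by decide +kernel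
theorem VT : ∀ x, InV x → InT x → x = 1 := by decide +kernel
theorem act_eq_one {x : SA} (h : act d x = 1) : x = 1 := by rw [← inv_act d x, h, act_one]
theorem fix_six : ∀ d : DD, Fix d → d * d * d * (d * d * d) = 1 := by decide +kernel
theorem fix_four : ∀ d : DD, Fix d → d * d = 1 → ∀ f, Fix f → f * f = 1 → d * f * (d * f) = 1 →
    d = 1 ∨ f = 1 ∨ d * f = 1 ∨ ¬ (CV d ∧ CV f) ∧ (CV d ∨ CV f ∨ CV (d * f)) := by decide +kernel
theorem sq_V : ∀ x : SA, InV (x * x) → x * x = 1 := by decide +kernel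
theorem core_mixed : ∀ x : SA, ¬ InW1 x → ¬ InW2 x → ∃ i : Fin 16,
    InV (o i * x * (o i)⁻¹ * x⁻¹) ∧ o i * x * (o i)⁻¹ * x⁻¹ ≠ 1 := by decide +kernel
/-- the elements of `B₂` -/
noncomputable abbrev bb (i : Fin 4) : SA := o (4 * i)
/-- commutator -/
noncomputable abbrev cm (x y : SA) : SA := x * y * x⁻¹ * y⁻¹
theorem core_W1 : ∀ x : SA, InW1 x → ¬ InE x → x * x = 1 ∧ ∃ i : Fin 4,
    InE (nu ((bb i)⁻¹ * x * bb i)) ∧ x = bb i * nu (nu ((bb i)⁻¹ * x * bb i)) * (bb i)⁻¹ ∧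
    InW1 (nu (cm (o 4) x)) ∧ cm (o 4) x = bb i * nu (nu (cm (o 4) x)) * (bb i)⁻¹ ∧
    ∃ j : Fin 4, InW1 (cm (bb j) (nu (cm (o 4) x))) ∧ ∃ k l : Fin 4,
      InV (cm (bb k) x * cm (bb l) (bb i * nu (cm (bb j) (nu (cm (o 4) x))) * (bb i)⁻¹)) ∧
      cm (bb k) x * cm (bb l) (bb i * nu (cm (bb j) (nu (cm (o 4) x))) * (bb i)⁻¹) ≠ 1 := by
  decide +kernel
theorem E_W : ∀ x : SA, InE x → InW1 x ∧ InW2 x := by decide +kernel
theorem conj_E_aux : ∀ x : SA, x * x = 1 → ¬ InV x → (InE x ∧ (InT x ↔ DS x)) ∨ ∃ i : Fin 16,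
    (InW1 (o i * x * (o i)⁻¹) ∧ InE (nu (o i * x * (o i)⁻¹)) ∧ ¬ InV (nu (o i * x * (o i)⁻¹)) ∧
      (InT (nu (o i * x * (o i)⁻¹)) ↔ DS x)) ∨
    (InW2 (o i * x * (o i)⁻¹) ∧ InE (mu (o i * x * (o i)⁻¹)) ∧ ¬ InV (mu (o i * x * (o i)⁻¹)) ∧
      (InT (mu (o i * x * (o i)⁻¹)) ↔ DS x)) := by decide +kernel
theorem E_dec : ∀ e : SA, InE e → ∃ t, InT t ∧ InV (t⁻¹ * e) := by decide +kernel

/-- the elements inducing a member of `U` -/
def pre (φ : SA →* G) (U : Subgroup DD) : Subgroup G where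
  carrier := {g | ∃ d ∈ U, Ind φ g d}
  one_mem' := ⟨1, U.one_mem, Ind.one φ⟩
  mul_mem' := fun ⟨_, h1, h2⟩ ⟨_, h3, h4⟩ => ⟨_, U.mul_mem h1 h3, h2.mul h4⟩
  inv_mem' := fun ⟨_, h1, h2⟩ => ⟨_, U.inv_mem h1, h2.inv⟩

namespace Fr

variable (F : Fr A φ n m τ)
include F

omit [Finite G] in
theorem V_mem {v : SA} (hv : InV v) : φ v ∈ KK A := (F.cen _ (F.mem v)).2 ⟨v, hv, rfl⟩

omit [Finite G] in
theorem of_K {x : SA} (h : φ x ∈ KK A) : InV x := by
  obtain ⟨v, hv, e⟩ := (F.cen _ (F.mem x)).1 h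
  exact F.inj e ▸ hv

omit [Finite G] F in
theorem comm_K {k a : G} (hk : k ∈ KK A) (ha : a ∈ A) : a * k = k * a := hk a ha

omit [Finite G] in
theorem ord {x : SA} (h : x * x = 1) (h1 : x ≠ 1) : orderOf (φ x) = 2 :=
  ord_two (by rw [← map_mul, h, map_one]) fun e => h1 (F.inj (e.trans φ.map_one.symm))

theorem H_of_conj {v : SA} (hv : InV v) (h1 : v ≠ 1) (h : g * φ v * g⁻¹ ∈ KK A) : g ∈ HH A :=
  F.norm.ge (mem_norm_of_conj F.tight (F.V_mem hv) (F.ord (V_sq v hv) h1) h)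

omit [Finite G] in
theorem nm : HH A = normalizer (KK A : Set G) := F.norm

omit [Finite G] in
theorem K_le : KK A ≤ HH A := le_normalizer.trans F.norm.ge

omit [Finite G] in
theorem conj_K {k : G} (hg : g ∈ HH A) (hk : k ∈ KK A) : g * k * g⁻¹ ∈ KK A :=
  conj_mem_of_mem_normalizer (F.norm.le hg) hk

omit [Finite G] in
theorem conj_V (hg : g ∈ HH A) {v : SA} (hv : InV v) : ∃ w, InV w ∧ φ w = g * φ v * g⁻¹ :=
  (F.cen _ (conj_mem_of_mem_normalizer hg (F.mem v))).1 (F.conj_K hg (F.V_mem hv))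

omit [Finite G] in
theorem fix (hg : g ∈ HH A) (H : Ind φ g d) : Fix d := by
  by_contra h
  have h1 : InV (o 96) := by decide +kernel
  have h2 := F.of_K (H.onE (V_E _ h1) ▸ F.conj_K hg (F.V_mem h1))
  exact absurd (act_eq_one (VT _ h2 ((fix_facts d _ h1).2.2 h))) (by decide +kernel)

theorem H_of_fix (H : Ind φ g d) (h : Fix d) : g ∈ HH A := by
  have h1 : InV (o 96) := by decide +kernel
  exact F.H_of_conj h1 (by decide +kernel) (H.onE (V_E _ h1) ▸ F.V_mem ((fix_facts d _ h1).1 h))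

theorem ker (H : Ind φ g 1) : ∃ s, ∃ k ∈ KK A, g = φ s * k := by
  obtain ⟨s, hs⟩ := F.f1 g (F.H_of_fix H (by decide +kernel)) H
  exact ⟨s, _, hs, by simp⟩

omit [Finite G] in
theorem ind_of_cent {e e' : SA} (he : InE e) (he' : InE e') (hv : ¬ InV e') (hg : g ∈ HH A)
    (h : g * φ e * g⁻¹ = φ e') : ∃ d, Ind φ g d :=
  exists_ind F.inj fun x => F.cent e' he' hv _ (conj_mem_of_mem_normalizer hg (F.mem x)) (by
    rw [← h]
    calc _ = g * φ (x * e) * g⁻¹ := by rw [map_mul]; group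
      _ = _ := by rw [← E_cen e he, map_mul]; group)

theorem cent_E (h : ∀ e, InE e → g * φ e * g⁻¹ = φ e) : Ind φ g 1 := by
  have h1 : InV (o 96) := by decide +kernel
  obtain ⟨d, H⟩ := F.ind_of_cent (e := o 16) (by decide +kernel) (by decide +kernel) (by decide +kernel)
    (F.H_of_conj h1 (by decide +kernel) ((h _ (V_E _ h1)).symm ▸ F.V_mem h1)) (h _ (by decide +kernel))
  exact H.eq_of F.inj (f := 1) (fun e he => by rw [one_act, h e he]) ▸ H

omit [Finite G] in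
theorem conj_E {x : SA} (h2 : x * x = 1) (hv : ¬ InV x) : ∃ a ∈ A, ∃ e, InE e ∧ ¬ InV e ∧
    (InT e ↔ DS x) ∧ a * φ x * a⁻¹ = φ e := by
  rcases conj_E_aux x h2 hv with h | ⟨i, h | h⟩
  · exact ⟨1, A.one_mem, x, h.1, hv, h.2, by simp⟩
  · exact ⟨n * φ (o i), A.mul_mem F.n_mem (F.mem _), _, h.2.1, h.2.2.1, h.2.2.2, by
      rw [← F.nu _ h.1, map_mul, map_mul, map_inv]; group⟩
  · exact ⟨m * φ (o i), A.mul_mem F.m_mem (F.mem _), _, h.2.1, h.2.2.1, h.2.2.2, by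
      rw [← F.mu _ h.1, map_mul, map_mul, map_inv]; group⟩

omit [Finite G] in
theorem cm_mem {L : Subgroup G} {x y : SA} {k : G} (hy : φ y ∈ normalizer (L : Set G))
    (hk : k ∈ KK A) (hx : φ x * k ∈ L) : φ (cm y x) ∈ L := by
  have := L.mul_mem (conj_mem_of_mem_normalizer hy hx) (L.inv_mem hx)
  convert this using 1
  simp only [map_mul, map_inv, mul_inv_rev]
  calc _ = φ y * φ x * ((φ y)⁻¹ * k) * k⁻¹ * (φ x)⁻¹ := by group
    _ = _ := by rw [comm_K hk (A.inv_mem (F.mem y))]; group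

theorem V_eq_one (hg : g ∉ HH A) {v : SA} (hv : InV v) (h : φ v ∈ cj g (KK A)) : v = 1 :=
  F.inj ((eq_one_of_two F.tight (F.norm ▸ hg) (F.V_mem hv) h (j := 1)
    (by rw [pow_one, pow_two, ← map_mul, V_sq v hv, map_one])).trans φ.map_one.symm)

theorem coreW (hg : g ∉ HH A) (hS : ∀ y, φ y ∈ normalizer (cj g (KK A) : Set G)) {x : SA} {k : G}
    (hk : k ∈ KK A) (hx : φ x * k ∈ cj g (KK A)) {j : ℕ} (hj : (φ x * k) ^ 2 ^ j = 1)
    (hw : InW1 x) : InE x := by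
  by_contra he
  obtain ⟨h2, i, e1, e2, e3, e4, j', e5, k', l, e6, e7⟩ := core_W1 x hw he
  have hc := comm_K hk (F.mem x)
  have h3 : φ x * k * (φ x * k) = k * k := by
    rw [mul_assoc, ← mul_assoc k, ← hc, ← mul_assoc, ← mul_assoc, ← map_mul, h2, map_one, one_mul]
  have h4 : orderOf (φ x * k) = 2 := ord_two (eq_one_of_two F.tight (F.norm ▸ hg)
    (h3 ▸ mul_mem hk hk) (mul_mem hx hx) (j := j) (by rw [← pow_two, ← pow_mul, mul_comm, pow_mul, hj,
      one_pow])) fun h => he (V_E _ (F.of_K (eq_inv_of_mul_eq_one_left h ▸ inv_mem hk)))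
  have hn : ∀ w, InW1 w → φ (bb i * StdR2.nu w * (bb i)⁻¹) = φ (bb i) * n * φ w * (φ (bb i) * n)⁻¹ :=
    fun w hw => by rw [map_mul, map_mul, map_inv, ← F.nu w hw]; group
  have hA := A.mul_mem (F.mem (bb i)) F.n_mem
  set c := φ (bb i) * n
  have h5 : c * φ (bb j') * c⁻¹ ∈ normalizer (cj g (KK A) : Set G) := by
    refine mem_norm_cj F.tight hx h4 ?_
    have h6 := comm_K hk (A.mul_mem (A.mul_mem hA (F.mem (bb j'))) (A.inv_mem hA))
    have h7 := congrArg φ (E_cen _ e1 (bb j'))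
    rw [map_mul, map_mul] at h7
    rw [mul_assoc (φ x), ← h6, ← mul_assoc, ← mul_assoc (φ x), e2, hn _ (E_W _ e1).1]
    generalize φ (StdR2.nu _) = w at h7
    calc _ = c * (φ (bb j') * w) * c⁻¹ * k := by group
      _ = _ := by rw [← h7]; group
  have h6 := F.cm_mem (hS (o 4)) hk hx
  have h7 := mul_mem (conj_mem_of_mem_normalizer h5 h6) (inv_mem h6)
  have h8 : φ (bb i * StdR2.nu (cm (bb j') (StdR2.nu (cm (o 4) x))) * (bb i)⁻¹) * 1 ∈ cj g (KK A) := by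
    convert h7 using 1
    rw [mul_one, hn _ e5, congrArg φ e4, hn _ e3]
    simp only [map_mul, map_inv]
    group
  exact e7 (F.V_eq_one hg e6 (by
    rw [map_mul]; exact mul_mem (F.cm_mem (hS _) hk hx) (F.cm_mem (hS _) (one_mem _) h8)))

theorem coreI (hg : g ∉ HH A) (hS : ∀ y, φ y ∈ normalizer (cj g (KK A) : Set G)) {x : SA} {k : G}
    (hk : k ∈ KK A) (hx : φ x * k ∈ cj g (KK A)) {j : ℕ} (hj : (φ x * k) ^ 2 ^ j = 1) : InE x := by
  by_cases h1 : InW1 x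
  · exact F.coreW hg hS hk hx hj h1
  by_cases h2 : InW2 x
  · rw [sw_π0] at hx hj
    exact π0_π0 x ▸ E_act _ _ (F.symm.coreW hg (fun y => hS _) hk hx hj ((π0_facts x).2.2 h2).1)
  obtain ⟨i, h3, h4⟩ := core_mixed x h1 h2
  exact absurd (F.V_eq_one hg h3 (F.cm_mem (hS _) hk hx)) h4

omit [Finite G] in
theorem card_V : Nat.card (VV.map φ) = 4 := by
  rw [card_map_of_injective F.inj, card_subgroup VV InV fun _ => Iff.rfl]; decide +kernel

omit [Finite G] in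
theorem V_le : VV.map φ ≤ KK A := by rintro _ ⟨v, hv, rfl⟩; exact F.V_mem hv

theorem H_le : HH A ≤ normalizer (VV.map φ : Set G) := fun g hg => mem_normalizer_of_forall (by
  rintro _ ⟨v, hv, rfl⟩
  exact F.conj_V hg hv)

theorem exists_R (hg : g ∉ HH A) (hT : IsSylowIn 2 T (cj g (KK A) ⊓ HH A)) (h1 : T ≠ ⊥) :
    ∃ R R0 : Subgroup G, IsSylowIn 2 R (KK A) ∧ VV.map φ ≤ R ∧ T ≤ normalizer (R : Set G) ∧ R0 ≤ R ∧
      Nat.card R0 = Nat.card T ∧ (∀ r ∈ R0, ∀ t ∈ T, r * t = t * r) ∧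
      ∀ t ∈ T, orderOf t = 2 → ∀ r ∈ R, r * t = t * r → r ∈ R0 :=
  exists_R0 F.tight (F.nm ▸ hg) (F.nm ▸ hT) h1 (IsPGroup.of_card (n := 2) F.card_V) F.V_le
    ((hT.le.trans inf_le_right).trans F.H_le)

theorem coreII (hg : g ∉ HH A) (hT : IsSylowIn 2 T (cj g (KK A) ⊓ HH A)) {e : SA} {k : G}
    (he : InE e) (hv : ¬ InV e) (hk : k ∈ KK A) (ht : φ e * k ∈ T) (h2 : orderOf (φ e * k) = 2)
    (hc : ∀ s ∈ T, s * (φ e * k) = φ e * k * s) :
    IsSylowIn 2 (VV.map φ) (KK A) ∧ T ≤ EE.map φ ∧ Nat.card T = 4 := by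
  have h0 : ∀ {x k} y, InE x → k ∈ KK A → φ y * (φ x * k) = φ x * k * φ y := fun {x k} y hx hk => by
    rw [mul_assoc, ← comm_K hk (F.mem y), ← mul_assoc, ← mul_assoc, ← map_mul, ← map_mul, E_cen x hx]
  have hS : ∀ y, φ y ∈ normalizer (cj g (KK A) : Set G) := fun y =>
    mem_norm_cj F.tight (hT.le ht).1 h2 (h0 y he hk)
  have h1 : ∀ s ∈ T, ∃ x, InT x ∧ ∃ k ∈ KK A, s = φ x * k := fun s hs => by
    have h3 : Ind φ s 1 := fun x => by
      have hA := conj_mem_of_mem_normalizer (hT.le hs).2 (F.mem x)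
      obtain ⟨y, hy⟩ := F.cent e he hv _ hA (by
        rw [← mul_left_inj k, mul_assoc _ _ k, mul_assoc (φ e), comm_K hk hA, ← mul_assoc (φ e)]
        calc _ = s * (φ x * (s⁻¹ * (φ e * k) * s)) * s⁻¹ := by group
          _ = s * (φ e * k) * φ x * s⁻¹ := by
            rw [mul_assoc s⁻¹, ← hc s hs, inv_mul_cancel_left, h0 x he hk]; group
          _ = _ := by rw [hc s hs]; group)
      have h4 : φ (y * x⁻¹) * 1 ∈ cj g (KK A) := by
        have := (cj g (KK A)).mul_mem (hT.le hs).1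
          (conj_mem_of_mem_normalizer (hS x) (inv_mem (hT.le hs).1))
        convert this using 1
        rw [map_mul, map_inv, hy]; group
      have h5 := F.coreI hg hS (one_mem _) h4 (j := 2) (by
        rw [mul_one, ← map_pow, show 2 ^ 2 = 2 + 2 from rfl, pow_add, pow_two, pow_four, map_one])
      exact ⟨_, h5, by rw [one_act, ← E_cen _ h5, inv_mul_cancel_right, hy]⟩
    obtain ⟨x, k, hk, rfl⟩ := F.ker h3
    obtain ⟨j, hj⟩ := isPGroup_iff_mem.1 hT.pgroup _ hs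
    obtain ⟨t, h4, h5⟩ := E_dec x (F.coreI hg hS hk (hT.le hs).1 hj)
    exact ⟨t, h4, _, mul_mem (F.V_mem h5) hk, by simp [mul_assoc]⟩
  obtain ⟨R, R0, hR, hV, hn, h0R, hc0, -, hm⟩ := F.exists_R hg hT
    fun h => ne_one_of_ord h2 (mem_bot.1 (h ▸ ht))
  have hi : ∀ s ∈ T, s ∈ KK A → s = 1 := fun s hs h => by
    obtain ⟨j, hj⟩ := isPGroup_iff_mem.1 hT.pgroup _ hs
    exact eq_one_of_two F.tight (F.norm ▸ hg) h (hT.le hs).1 hj
  choose! x hx k' hk' hs using h1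
  have h4 : Nat.card T ≤ 4 := by
    have := Nat.card_le_card_of_injective (fun s : T => (⟨x s, hx s s.2⟩ : {x // InT x}))
      fun s s' h => Subtype.ext (inv_mul_eq_one.1 (hi _ (mul_mem (inv_mem s.2) s'.2) (by
        rw [hs s s.2, hs s' s'.2, show x s = x s' from congrArg Subtype.val h]
        simpa [mul_assoc] using mul_mem (inv_mem (hk' s s.2)) (hk' s' s'.2))))
    rwa [TG.card_subtype, show cnt InT = 4 by decide +kernel] at this
  have h5 : VV.map φ = R0 := eq_of_le_of_card_ge (fun v hv => hm _ ht h2 _ (hV hv) (by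
    obtain ⟨v, -, rfl⟩ := hv
    exact h0 v he hk)) (by rw [hc0, F.card_V]; exact h4)
  have h6 : T ≤ EE.map φ := fun s hs' => by
    by_cases h7 : s = 1
    · exact h7 ▸ one_mem _
    have hc := comm_K (hk' s hs') (F.mem (x s))
    have h8 : s * s = k' s * k' s := by
      have := hs s hs'
      have h9 := T_E _ (hx s hs')
      generalize k' s = c at this hc
      generalize x s = y at this hc h9
      rw [this, mul_assoc, ← mul_assoc c, ← hc, ← mul_assoc, ← mul_assoc, ← map_mul, E_sq _ h9, map_one,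
        one_mul]
    have h9 := hi _ (mul_mem hs' hs') (h8 ▸ mul_mem (hk' s hs') (hk' s hs'))
    have h10 : k' s ∈ R := hR.le_of_normalizes (isPGroup_zpowers_of_pow (k := 1)
      (by rw [pow_one, pow_two, ← h8, h9])) (zpowers_le.2 (hk' s hs')) (zpowers_le.2 (by
        rw [eq_inv_mul_of_mul_eq (hs s hs').symm]
        exact mul_mem (inv_mem (mem_normalizer_of_forall fun r hr => by
          rwa [comm_K (hR.le hr) (F.mem _), mul_inv_cancel_right])) (hn hs'))) (mem_zpowers _)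
    obtain ⟨v, hv, e⟩ := h5.ge (hm s hs' (ord_two h9 h7) _ h10 (by
      have := hs s hs'
      generalize k' s = c at this hc
      generalize x s = y at this hc
      rw [this, ← mul_assoc, ← hc]))
    exact ⟨x s * v, E_mul (T_E _ (hx s hs')) (V_E v hv), by rw [map_mul, e, ← hs s hs']⟩
  refine ⟨?_, h6, by rw [← hc0, ← h5, F.card_V]⟩
  rwa [le_antisymm hV fun r hr => h5.ge (hm _ ht h2 r hr ?_)]
  obtain ⟨y, -, e⟩ := h6 ht
  rw [← e, comm_K (hR.le hr) (F.mem y)]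

end Fr

end CfsgLib.StdR2
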