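import Cfsg.Agent.Lib.StdR2.HeGR

/-! The dichotomy for conjugates of `V`, an element interchanging `V` and `T₀`, and the conjugates of
the involutions of `V` in the Sylow subgroup of `A`. -/

set_option autoImplicit false
set_option Elab.async false
set_option synthInstance.maxSize 100000

namespace CfsgLib.StdR2

open Subgroup Cfsg CfsgLib.W2 CfsgLib.W2.TG CfsgLib.Tech

variable {G : Type*} [Group G] [Finite G] {A T : Subgroup G} {φ : SA →* G} {n m τ g t : G} {d : DD}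

/-- `t` centralises `V` -/
def CenV (φ : SA →* G) (t : G) : Prop := ∀ v, InV v → t * φ v = φ v * t

/-- conjugates of the involutions of `V` -/
def Dd (φ : SA →* G) (x : G) : Prop := ∃ g v, InV v ∧ v ≠ 1 ∧ x = g * φ v * g⁻¹

theorem fix_V : ∀ d : DD, Fix d → d * d = 1 → ∃ r, InV r ∧ r ≠ 1 ∧ act d r = r ∧ (¬ CV d →
    ∃ x, InV x ∧ act d x = x * r ∧ ∀ v, InV v → act d v * v = 1 → v = 1 ∨ v = r) := by decide +kernel
theorem E_split : ∀ a, InE a → ¬ InV a → ∀ b, InE b → ¬ InV b → ¬ InV (a * b) → ∀ e, InE e →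
    InV e ∨ InV (e * a) ∨ InV (e * b) ∨ InV (e * (a * b)) := by decide +kernel
theorem fix_u : ∀ d : DD, Fix d → d * d = 1 → ¬ CV d →
    (∃ e, InE e ∧ ¬ InV (e * act d e⁻¹)) ∨ ∀ e, InE e → InE (o 1 * (act d (o 1) * e) *
      (o 1 * (act d (o 1) * e))) ∧ ¬ InV (o 1 * (act d (o 1) * e) * (o 1 * (act d (o 1) * e))) := by
  decide +kernel
theorem fix_T : ∀ d : DD, ∀ e, InE e → (Fix d → InT (act d e) → InT e) ∧
    (¬ Fix d → InT e → InV (act d e)) := by decide +kernel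
theorem V_three : ∀ v, InV v → ∀ w, InV w → v ≠ 1 → w ≠ 1 → v ≠ w → ∀ x, InV x →
    x = 1 ∨ x = v ∨ x = w ∨ x = v * w := by decide +kernel
theorem DS_facts : ∀ x, (DS x → x * x = 1 ∧ x ≠ 1) ∧ (InV x → x ≠ 1 → DS x) := by decide +kernel

omit [Finite G] in
theorem Dd.conj {x : G} (h : Dd φ x) (g : G) : Dd φ (g * x * g⁻¹) := by
  obtain ⟨a, v, h1, h2, rfl⟩ := h
  exact ⟨g * a, v, h1, h2, by group⟩

omit [Finite G] in
theorem Dd.of_conj {x : G} (h : Dd φ (g * x * g⁻¹)) : Dd φ x := by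
  simpa [mul_assoc] using h.conj g⁻¹

theorem card_le_two (h : ∀ s ∈ T, s = 1 ∨ s = t) : Nat.card T ≤ 2 :=
  (Set.ncard_le_ncard (s := (T : Set G)) (t := {1, t}) h).trans
    ((Set.ncard_insert_le _ _).trans (by simp))

namespace Fr

variable (F : Fr A φ n m τ)
include F

omit [Finite G] in
theorem cenV_iff (H : Ind φ t d) : CenV φ t ↔ CV d := by
  have k : ∀ v, InV v → (t * φ v = φ v * t ↔ act d v = v) := fun v hv => by
    rw [← mul_inv_eq_iff_eq_mul, H.onE (V_E v hv), F.inj.eq_iff]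
  exact ⟨fun h => ⟨(k _ (by decide +kernel)).1 (h _ (by decide +kernel)),
    (k _ (by decide +kernel)).1 (h _ (by decide +kernel))⟩,
    fun h v hv => (k v hv).2 ((fix_facts d v hv).2.1 h)⟩

omit [Finite G] in
theorem cenV_of_mem {a : G} (ha : a ∈ A) : CenV φ a := fun _ hv => comm_K (F.V_mem hv) ha

omit [Finite G] in
theorem cenV_conj {a : G} (ha : a ∈ A) (h : CenV φ t) : CenV φ (a * t * a⁻¹) := fun v hv => by
  rw [mul_assoc, F.cenV_of_mem (inv_mem ha) v hv, ← mul_assoc, mul_assoc a, h v hv, ← mul_assoc,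
    F.cenV_of_mem ha v hv]; group

theorem H_of_cenV (h : CenV φ t) : t ∈ HH A :=
  F.H_of_conj (v := o 96) (by decide +kernel) (by decide +kernel) (by
    rw [h _ (by decide +kernel), mul_inv_cancel_right]; exact F.V_mem (by decide +kernel))

omit [Finite G] in
theorem sq_of_fix (H : Ind φ t d) (hd : Fix d) {j : ℕ} (h : t ^ 2 ^ j = 1) : d * d = 1 := by
  have h1 := (H.pow (2 ^ j)).unique F.inj (h ▸ Ind.one φ)
  refine mem_bot.1 (mem_of_coprime_pow (a := 2 ^ j) (b := 3) (Nat.Coprime.pow_left j (by decide))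
    (mem_bot.2 ?_) (mem_bot.2 ?_))
  · rw [← pow_two, ← pow_mul, mul_comm, pow_mul, h1, one_pow]
  · rw [← fix_six d hd]; simp only [pow_succ, pow_zero, one_mul, mul_assoc]

theorem caseI (hg : g ∉ HH A) (hT : IsSylowIn 2 T (cj g (KK A) ⊓ HH A)) (h1 : T ≠ ⊥)
    (hN : T ≤ normalizer (φ.range : Set G)) (hk : ∀ s ∈ T, Ind φ s 1 → s = 1) :
    IsSylowIn 2 (VV.map φ) (KK A) ∧ Nat.card T ≤ 2 ∧ ∀ s ∈ T, CenV φ s → s = 1 := by
  obtain ⟨R, R0, hR, hV, hn, h0R, hc0, hcm, hm⟩ := F.exists_R hg hT h1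
  have hd : ∀ s ∈ T, ∃ d, Ind φ s d ∧ Fix d ∧ d * d = 1 := fun s hs => by
    obtain ⟨d, H⟩ := exists_ind F.inj fun x => conj_mem_of_mem_normalizer (hN hs) ⟨x, rfl⟩
    obtain ⟨j, hj⟩ := isPGroup_iff_mem.1 hT.pgroup _ hs
    exact ⟨d, H, F.fix (hT.le hs).2 H, F.sq_of_fix H (F.fix (hT.le hs).2 H) hj⟩
  have hsq : ∀ s ∈ T, s * s = 1 := fun s hs => by
    obtain ⟨d, H, -, h⟩ := hd s hs
    exact hk _ (mul_mem hs hs) (h ▸ H.mul H)
  have hne : ∀ s ∈ T, ∀ s' ∈ T, s = 1 ∨ s' = 1 ∨ s * s' = 1 ∨ ¬ (CenV φ s ∧ CenV φ s') ∧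
      (CenV φ s ∨ CenV φ s' ∨ CenV φ (s * s')) := fun s hs s' hs' => by
    obtain ⟨d, H, h2, h3⟩ := hd s hs
    obtain ⟨f, H', h4, h5⟩ := hd s' hs'
    obtain ⟨c, H'', -, h6⟩ := hd _ (mul_mem hs hs')
    rw [H''.unique F.inj (H.mul H')] at h6
    rw [F.cenV_iff H, F.cenV_iff H', F.cenV_iff (H.mul H')]
    rcases fix_four d h2 h3 f h4 h5 h6 with h | h | h | h
    exacts [Or.inl (hk _ hs (h ▸ H)), Or.inr (Or.inl (hk _ hs' (h ▸ H'))),
      Or.inr (Or.inr (Or.inl (hk _ (mul_mem hs hs') (h ▸ H.mul H')))), Or.inr (Or.inr (Or.inr h))]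
  have he : ∀ s ∈ T, ∀ s', s * s' = 1 → s' = s := fun s hs s' h =>
    mul_left_cancel (h.trans (hsq s hs).symm)
  have hno : ∀ s ∈ T, CenV φ s → s = 1 := fun s hs h => by
    by_contra h2
    have h3 : VV.map φ ≤ R0 := fun _ ⟨v, hv, e⟩ =>
      hm s hs (ord_two (hsq s hs) h2) _ (hV ⟨v, hv, e⟩) (e ▸ (h v hv).symm)
    have h4 := card_le_two (T := T) (t := s) fun s' hs' => by
      rcases hne s hs s' hs' with h5 | h5 | h5 | h5
      exacts [absurd h5 h2, Or.inl h5, Or.inr (he s hs s' h5),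
        absurd ⟨h, fun v hv => (hcm _ (h3 ⟨v, hv, rfl⟩) s' hs').symm⟩ h5.1]
    have := card_le_of_le h3
    rw [F.card_V] at this
    omega
  obtain ⟨t, ht, h2⟩ := exists_inv_of_pgroup hT.pgroup h1
  have h3 : ∀ s ∈ T, s = 1 ∨ s = t := fun s hs => by
    rcases hne t ht s hs with h | h | h | ⟨-, h | h | h⟩
    exacts [absurd h (ne_one_of_ord h2), Or.inl h, Or.inr (he t ht s h),
      absurd (hno t ht h) (ne_one_of_ord h2), Or.inl (hno s hs h),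
      Or.inr (he t ht s (hno _ (mul_mem ht hs) h))]
  refine ⟨?_, card_le_two h3, hno⟩
  obtain ⟨d, H, h4, h5⟩ := hd t ht
  obtain ⟨r, hr, r1, r2, h6⟩ := fix_V d h4 h5
  obtain ⟨x, hx, x1, x2⟩ := h6 fun h => ne_one_of_ord h2 (hno t ht ((F.cenV_iff H).2 h))
  have h7 : zpowers (φ r) = R0 := eq_of_le_of_card_ge (zpowers_le.2 (hm t ht h2 _ (hV ⟨r, hr, rfl⟩) (by
    rw [eq_comm, ← mul_inv_eq_iff_eq_mul, H.onE (V_E r hr), r2])))
    (by rw [Nat.card_zpowers, F.ord (V_sq r hr) r1, hc0]; exact card_le_two h3)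
  have h8 : R0 ≤ VV.map φ := h7 ▸ zpowers_le.2 ⟨r, hr, rfl⟩
  suffices h : R ≤ VV.map φ by rwa [le_antisymm hV h]
  by_contra h
  obtain ⟨u, hu, h9, h10⟩ := CIT.exists_fixed_coset hT.pgroup hR.pgroup hn h
  obtain ⟨v, hv, e⟩ := h10 t ht
  have e1 : t * u * t⁻¹ = φ v * u := by rw [e, inv_mul_cancel_right]
  have e2 : act d v * v = 1 := F.inj (by
    rw [map_mul, ← H.onE (V_E v hv), map_one, ← mul_left_inj u, mul_assoc, ← e1]
    calc _ = t * (φ v * u) * t⁻¹ := by group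
      _ = t * t * u * (t * t)⁻¹ := by rw [← e1]; group
      _ = _ := by rw [hsq t ht]; group)
  rcases x2 v hv e2 with rfl | rfl
  · exact h9 (h8 (hm t ht h2 u hu (by rw [eq_comm, ← mul_inv_eq_iff_eq_mul, e1, map_one, one_mul])))
  · refine h9 ((mul_mem_cancel_right (mem_map_of_mem φ hx)).1
      (h8 (hm t ht h2 _ (mul_mem hu (hV ⟨x, hx, rfl⟩)) ?_)))
    rw [eq_comm, ← mul_inv_eq_iff_eq_mul]
    calc _ = t * u * t⁻¹ * (t * φ x * t⁻¹) := by group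
      _ = _ := by
        rw [e1, H.onE (V_E x hx), x1, comm_K (hR.le hu) (F.mem v), mul_assoc, ← map_mul,
          ← E_cen v (V_E v hv), ← mul_assoc, V_sq v hv, one_mul]

theorem GR (hg : g ∉ HH A) (hT : IsSylowIn 2 T (cj g (KK A) ⊓ HH A)) (h1 : T ≠ ⊥) :
    IsSylowIn 2 (VV.map φ) (KK A) ∧ ((Nat.card T ≤ 2 ∧ ∀ s ∈ T, CenV φ s → s = 1) ∨
      ∃ a ∈ A, cj a T ≤ EE.map φ ∧ Nat.card T = 4) := by
  have k : ∀ {g T a}, a ∈ A → g ∉ HH A → IsSylowIn 2 T (cj g (KK A) ⊓ HH A) →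
      a * g ∉ HH A ∧ IsSylowIn 2 (cj a T) (cj (a * g) (KK A) ⊓ HH A) := fun {g T a} ha hg hT =>
    ⟨fun h => hg ((mul_mem_cancel_left (le_normalizer ha)).1 h), by
      have := hT.cj a
      rwa [cj_inf, ← cj_mul, cj_eq_of_mem (le_normalizer ha)] at this⟩
  obtain ⟨a, ha, hN⟩ := exists_cj_norm F.syl hT.pgroup (hT.le.trans inf_le_right)
  obtain ⟨hg', hT'⟩ := k ha hg hT
  by_cases h2 : cj a T ⊓ pre φ ⊥ ≤ ⊥
  · obtain ⟨h3, h4, h5⟩ := F.caseI hg' hT' (mt cj_eq_bot_iff.1 h1) hN fun s hs H =>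
      h2 ⟨hs, 1, one_mem _, H⟩
    exact ⟨h3, Or.inl ⟨card_cj a T ▸ h4, fun s hs h => by
      simpa using h5 _ (conj_mem_cj.2 hs) (F.cenV_conj ha h)⟩⟩
  obtain ⟨u, hu, u1, u2⟩ := CIT.exists_fixed_coset hT'.pgroup hT'.pgroup.to_inf_left
    (fun s hs => mem_normalizer_of_forall fun x h => by
      obtain ⟨hx, d, hd, H⟩ := h
      obtain ⟨f, H'⟩ := exists_ind F.inj fun x => conj_mem_of_mem_normalizer (hN hs) ⟨x, rfl⟩
      exact ⟨(cj a T).mul_mem (mul_mem hs hx) (inv_mem hs), _, by simp [mem_bot.1 hd], H'.conj H⟩) h2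
  obtain ⟨t, ht, h3⟩ := exists_inv_of_pgroup (isPGroup_zpowers_of_mem hT'.pgroup hu.1)
    (mt zpowers_eq_bot.1 u1)
  obtain ⟨h4, d, hd, H⟩ := zpowers_le.2 hu ht
  obtain ⟨x, c, hc, rfl⟩ := F.ker (mem_bot.1 hd ▸ H)
  have h5 : x * x = 1 := sq_V x (F.of_K (by
    rw [map_mul, eq_inv_of_mul_eq_one_left (a := φ x * φ x) (b := c * c) (by
      rw [← sq_of_ord h3, mul_assoc (φ x) c, ← mul_assoc c, ← comm_K hc (F.mem x)]; group)]
    exact inv_mem (mul_mem hc hc)))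
  obtain ⟨b, hb, e, e1, e2, -, e3⟩ := F.conj_E h5 fun h => ne_one_of_ord h3 (eq_one_of_two F.tight
    (F.nm ▸ hg') (mul_mem (F.V_mem h) hc) (hT'.le h4).1 (j := 1) (by rw [pow_one, pow_two, sq_of_ord h3]))
  have e4 : φ e * c = b * (φ x * c) * b⁻¹ := by
    rw [← e3, mul_assoc, comm_K hc (inv_mem hb)]; group
  obtain ⟨hg'', hT''⟩ := k hb hg' hT'
  obtain ⟨h6, h7, h8⟩ := F.coreII hg'' hT'' e1 e2 hc (e4 ▸ conj_mem_cj.2 h4) (by rw [e4, ord_conj, h3])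
    (by
      rintro _ ⟨s, hs, rfl⟩
      obtain ⟨i, hi⟩ := ht
      have := (Commute.zpow_right (show Commute s u from
        mul_inv_eq_iff_eq_mul.1 (mul_inv_eq_one.1 (mem_bot.1 (u2 s hs)))) i).eq
      simp only at hi
      rw [e4, ← hi]
      calc _ = b * (s * u ^ i) * b⁻¹ := by simp [mul_assoc]
        _ = _ := by rw [this]; simp [mul_assoc])
  exact ⟨h6, Or.inr ⟨b * a, mul_mem hb ha, cj_mul b a T ▸ h7, by rwa [card_cj, card_cj] at h8⟩⟩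

variable [IsSimpleGroup G]

theorem exists_pair : ∃ g ∉ HH A, ∃ t, orderOf t = 2 ∧ t ∈ cj g (KK A) ∧ t ∈ HH A := by
  have h1 : ∀ L : Subgroup G, L.Normal → KK A ≤ L → L = ⊤ := fun L hL h =>
    (hL.eq_bot_or_eq_top).resolve_left fun e => ne_one_of_ord (F.ord (x := o 96) (by decide +kernel)
      (by decide +kernel)) (mem_bot.1 (e ▸ h (F.V_mem (by decide +kernel))))
  have h2 : φ (o 16) ∉ KK A := fun h => absurd (F.of_K h) (by decide +kernel)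
  rw [F.nm]
  exact exists_conj_inv F.tight (fun h => h2 ((h1 _ h le_rfl).ge trivial))
    (F.ord (x := o 16) (by decide +kernel) (by decide +kernel)) (F.nm.le (le_normalizer (F.mem _)))
    ((h1 _ inferInstance le_normalClosure).ge trivial) h2

theorem sylV : IsSylowIn 2 (VV.map φ) (KK A) := by
  obtain ⟨g, hg, t, h3, h4, h5⟩ := F.exists_pair
  obtain ⟨T, hT, h6⟩ := exists_isSylowIn_ge (p := 2) (isPGroup_zpowers_iff.2 ⟨1, h3⟩)
    (zpowers_le.2 (mem_inf.2 ⟨h4, h5⟩))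
  exact (F.GR hg hT fun h => ne_one_of_ord h3 (mem_bot.1 (h ▸ h6 (mem_zpowers t)))).1

theorem two_V {k : G} (hk : k ∈ KK A) {j : ℕ} (h : k ^ 2 ^ j = 1) : ∃ v, InV v ∧ φ v = k :=
  F.sylV.le_of_normalizes (isPGroup_zpowers_of_pow h) (zpowers_le.2 hk)
    (zpowers_le.2 (F.H_le (F.K_le hk))) (mem_zpowers k)

theorem two_mem (H : Ind φ g 1) {j : ℕ} (h : g ^ 2 ^ j = 1) : g ∈ φ.range := by
  obtain ⟨s, k, hk, rfl⟩ := F.ker H
  obtain ⟨v, -, rfl⟩ := F.two_V hk (j := j + 2) (by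
    have h1 : φ s ^ 2 ^ (j + 2) = 1 := by
      rw [← map_pow, pow_succ', pow_succ', ← mul_assoc, pow_mul, show 2 * 2 = 2 + 2 from rfl, pow_add,
        pow_two, pow_four, one_pow, map_one]
    have h2 := Commute.mul_pow (comm_K hk (F.mem s)) (2 ^ (j + 2))
    rw [h1, one_mul] at h2
    rw [← h2, pow_add, pow_mul, h, one_pow])
  exact ⟨_, map_mul _ _ _⟩

theorem GR2 (hg : g ∉ HH A) (h : (∃ v, InV v ∧ v ≠ 1 ∧ CenV φ (g * φ v * g⁻¹)) ∨
    ∀ w, InV w → g * φ w * g⁻¹ ∈ HH A) :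
    ∃ a ∈ A, ∀ w, InV w → ∃ e, InE e ∧ a * g * φ w * (a * g)⁻¹ = φ e := by
  obtain ⟨T, hT, h1⟩ := exists_isSylowIn_ge (Q := cj g (VV.map φ) ⊓ HH A) (H := cj g (KK A) ⊓ HH A)
    (isPGroup_cj g F.sylV.pgroup).to_inf_left (inf_le_inf_right _ (cj_mono g F.V_le))
  have h2 : T ≤ cj g (VV.map φ) := fun s hs => by
    obtain ⟨j, hj⟩ := isPGroup_iff_mem.1 hT.pgroup _ hs
    exact mem_cj.2 (F.two_V (mem_cj.1 (hT.le hs).1) (j := j) (by
      simpa [hj] using conj_pow (a := g⁻¹) (b := s) (i := 2 ^ j)))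
  have h3 : ∀ v, InV v → g * φ v * g⁻¹ ∈ HH A → g * φ v * g⁻¹ ∈ T := fun v hv h =>
    h1 ⟨conj_mem_cj.2 ⟨v, hv, rfl⟩, h⟩
  have h4 : ∀ v, g * φ v * g⁻¹ = 1 → v = 1 := fun v h => F.inj (by simpa using h)
  have h5 : T ≠ ⊥ := fun e => by
    rcases h with ⟨v, hv, v1, h⟩ | h
    · exact v1 (h4 v (mem_bot.1 (e ▸ h3 v hv (F.H_of_cenV h))))
    · exact absurd (h4 (o 96) (mem_bot.1 (e ▸ h3 _ (by decide +kernel) (h _ (by decide +kernel)))))
        (by decide +kernel)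
  rcases (F.GR hg hT h5).2 with ⟨h6, h7⟩ | ⟨a, ha, h6, h7⟩
  · rcases h with ⟨v, hv, v1, h⟩ | h
    · exact absurd (h4 v (h7 _ (h3 v hv (F.H_of_cenV h)) h)) v1
    · have := card_le_of_le (cj_le_iff.2 fun _ ⟨v, hv, e⟩ => e ▸ h3 v hv (h v hv) :
        cj g (VV.map φ) ≤ T)
      rw [card_cj, F.card_V] at this
      omega
  · rw [eq_of_le_of_card_ge h2 (by rw [card_cj, F.card_V, h7]), ← cj_mul] at h6
    exact ⟨a, ha, fun w hw => (h6 (conj_mem_cj.2 ⟨w, hw, rfl⟩)).imp fun _ h => ⟨h.1, h.2.symm⟩⟩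

theorem ind_of_E (h : ∀ e, InE e → ∃ e', InE e' ∧ g * φ e * g⁻¹ = φ e') : ∃ d, Ind φ g d := by
  have h1 : g ∈ normalizer (EE.map φ : Set G) := mem_normalizer_of_forall (by
    rintro _ ⟨e, he, rfl⟩
    obtain ⟨e', h1, h2⟩ := h e he
    exact ⟨e', h1, h2.symm⟩)
  refine exists_ind F.inj fun x => F.two_mem (F.cent_E fun e he => ?_) (j := 2) ?_
  · obtain ⟨e', h2, h3⟩ := conj_mem_of_mem_normalizer' h1 ⟨e, he, rfl⟩
    calc _ = g * (φ x * (g⁻¹ * φ e * g) * (φ x)⁻¹) * g⁻¹ := by group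
      _ = _ := by rw [← h3, ← map_mul, ← E_cen e' h2, map_mul, h3]; group
  · rw [conj_pow, ← map_pow, show 2 ^ 2 = 2 + 2 from rfl, pow_add, pow_two, pow_four]; simp

theorem ind_E (h : ∀ e, InE e → g * φ e * g⁻¹ = φ (act d e)) : Ind φ g d := by
  obtain ⟨f, H⟩ := F.ind_of_E fun e he => ⟨_, E_act d e he, h e he⟩
  exact H.eq_of F.inj h ▸ H

theorem toT (hg : g ∉ HH A) {v : SA} (hv : InV v) (h1 : v ≠ 1) (h : CenV φ (g * φ v * g⁻¹)) :
    ∃ a ∈ A, ∃ b ∈ A, ∃ d, Ind φ (a * g * b) d ∧ ¬ Fix d := by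
  obtain ⟨a, ha, h2⟩ := F.GR2 hg (Or.inl ⟨v, hv, h1, h⟩)
  have h3 : ∀ b ∈ A, a * g * b ∉ HH A := fun b hb h => hg ((mul_mem_cancel_left (le_normalizer ha)).1
    ((mul_mem_cancel_right (le_normalizer hb)).1 h))
  obtain ⟨b, hb, h4⟩ := F.GR2 (g := (a * g)⁻¹) (fun h => h3 1 (one_mem _) (by simpa using inv_mem h))
    (Or.inl ⟨v, hv, h1, fun w hw => by
      obtain ⟨e, he, h5⟩ := h2 w hw
      calc _ = (a * g)⁻¹ * (φ v * (a * g * φ w * (a * g)⁻¹)) * (a * g) := by group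
        _ = _ := by rw [h5, ← map_mul, ← E_cen e he, map_mul, ← h5]; group⟩)
  have h5 : ∀ w, InV w → ∃ e, InE e ∧ a * g * b⁻¹ * φ w * (a * g * b⁻¹)⁻¹ = φ e := fun w hw => by
    obtain ⟨e, he, h5⟩ := h2 w hw
    exact ⟨e, he, by rw [← h5, mul_assoc _ b⁻¹, F.cenV_of_mem (inv_mem hb) w hw]; group⟩
  have h6 : ∀ w, InV w → w ≠ 1 → ∀ e, b * (a * g)⁻¹ * φ w * (b * (a * g)⁻¹)⁻¹ = φ e → ¬ InV e :=
    fun w hw w1 e h he => h3 b⁻¹ (inv_mem hb) (by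
      have := inv_mem (F.H_of_conj hw w1 (h ▸ F.V_mem he))
      simpa [mul_assoc] using this)
  obtain ⟨e1, a1, b1⟩ := h4 (o 96) (by decide +kernel)
  obtain ⟨e2, a2, b2⟩ := h4 (o 176) (by decide +kernel)
  have b3 : b * (a * g)⁻¹ * φ (o 96 * o 176) * (b * (a * g)⁻¹)⁻¹ = φ (e1 * e2) := by
    rw [map_mul, map_mul, ← b1, ← b2]; group
  have h7 : ∀ e e' w, InE e' → InE w → b * (a * g)⁻¹ * φ w * (b * (a * g)⁻¹)⁻¹ = φ e' → InV (e * e') →
      ∃ c, InE c ∧ a * g * b⁻¹ * φ e * (a * g * b⁻¹)⁻¹ = φ c := fun e e' w he' hw h hv => by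
    obtain ⟨c, hc, h8⟩ := h5 _ hv
    exact ⟨c * w⁻¹, E_mul hc (E_inv hw), by rw [map_mul, ← h8, map_mul, ← h, map_inv]; group⟩
  obtain ⟨d, H⟩ := F.ind_of_E (g := a * g * b⁻¹) fun e he => by
    rcases E_split e1 a1 (h6 _ (by decide +kernel) (by decide +kernel) _ b1) e2 a2
      (h6 _ (by decide +kernel) (by decide +kernel) _ b2)
      (h6 _ (by decide +kernel) (by decide +kernel) _ b3) e he with h | h | h | h
    exacts [h5 e h, h7 _ _ _ a1 (by decide +kernel) b1 h, h7 _ _ _ a2 (by decide +kernel) b2 h,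
      h7 _ _ _ (E_mul a1 a2) (by decide +kernel) b3 h]
  exact ⟨a, ha, b⁻¹, inv_mem hb, d, H, fun h => h3 _ (inv_mem hb) (F.H_of_fix H h)⟩

theorem swap_of_D {e : SA} (he : InE e) (hv : ¬ InV e) (h : Dd φ (φ e)) :
    ∃ a ∈ A, ∃ g d v, Ind φ g d ∧ ¬ Fix d ∧ InV v ∧ a * φ e * a⁻¹ = φ (act d v) := by
  obtain ⟨g, v, h1, h2, e1⟩ := h
  obtain ⟨a, ha, b, hb, d, H, hd⟩ := F.toT (g := g) (fun h => hv (F.of_K (e1 ▸ F.conj_K h (F.V_mem h1))))
    h1 h2 fun w _ => by rw [← e1, ← map_mul, ← map_mul, E_cen e he]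
  refine ⟨a, ha, _, d, v, H, hd, h1, ?_⟩
  rw [← H.onE (V_E v h1), e1, mul_assoc _ b, F.cenV_of_mem hb v h1]; group

theorem exists_swap : ∃ g d, Ind φ g d ∧ ¬ Fix d := by
  by_contra hc
  have hno : ∀ g ∉ HH A, ∀ v, InV v → v ≠ 1 → ¬ CenV φ (g * φ v * g⁻¹) := fun g hg v h1 h2 h => by
    obtain ⟨a, -, b, -, d, H⟩ := F.toT hg h1 h2 h
    exact hc ⟨_, d, H⟩
  obtain ⟨g', hg', t', h3, h4, h5⟩ := F.exists_pair
  obtain ⟨a, ha, hN⟩ := exists_cj_norm F.syl (isPGroup_zpowers_iff.2 ⟨1, h3⟩) (zpowers_le.2 h5)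
  obtain ⟨v, hv, e⟩ := F.two_V (mem_cj.1 h4) (j := 1) (by
    rw [pow_one, pow_two]
    calc _ = g'⁻¹ * (t' * t') * g' := by group
      _ = _ := by rw [sq_of_ord h3]; group)
  obtain ⟨d, H⟩ := exists_ind F.inj fun x =>
    conj_mem_of_mem_normalizer (hN (conj_mem_cj.2 (mem_zpowers t'))) ⟨x, rfl⟩
  have hg : a * g' ∉ HH A := fun h => hg' ((mul_mem_cancel_left (le_normalizer ha)).1 h)
  have e0 : a * t' * a⁻¹ = a * g' * φ v * (a * g')⁻¹ := by rw [e]; group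
  have hd := F.fix (mul_mem (mul_mem (le_normalizer ha) h5) (inv_mem (le_normalizer ha))) H
  rw [← ord_conj a] at h3
  rw [e0] at H h3
  generalize a * g' = g at hg H h3
  have v1 : v ≠ 1 := fun h => ne_one_of_ord h3 (by simp [h])
  have hD : Dd φ (g * φ v * g⁻¹) := ⟨g, v, hv, v1, rfl⟩
  have hcv := mt (F.cenV_iff H).2 (hno g hg v hv v1)
  have tt := sq_of_ord h3
  have hd2 := F.sq_of_fix H hd (j := 1) (by rw [pow_one, pow_two, tt])
  obtain ⟨r, hr, r1, r2, h6⟩ := fix_V d hd hd2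
  obtain ⟨x, hx, x1, -⟩ := h6 hcv
  obtain ⟨w, hw, w1, w2⟩ := (by decide +kernel : ∀ v, ∃ w, InV w ∧ w ≠ 1 ∧ v ≠ w) v
  have hy : ∀ c, c * (g * φ v * g⁻¹) = g * φ v * g⁻¹ * c → CenV φ (g⁻¹ * c * g) ∧
      c * (g * φ w * g⁻¹) = g * φ w * g⁻¹ * c ∨
      g * φ w * g⁻¹ * c * (g * φ w * g⁻¹)⁻¹ = g * φ v * g⁻¹ * c := fun c hc => by
    have a1 : g⁻¹ * c * g * φ v = φ v * (g⁻¹ * c * g) := by
      calc _ = g⁻¹ * (c * (g * φ v * g⁻¹)) * g := by group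
        _ = _ := by rw [hc]; group
    obtain ⟨w', a2, a3⟩ := F.conj_V (F.H_of_conj hv v1 (by
      rw [a1, mul_inv_cancel_right]; exact F.V_mem hv)) hw
    rcases V_three v hv w hw v1 w1 w2 w' a2 with rfl | rfl | rfl | rfl
    · rw [map_one, eq_comm, conj_eq_one_iff, map_eq_one_iff φ F.inj] at a3
      exact absurd a3 w1
    · rw [eq_mul_inv_iff_mul_eq, ← a1, mul_right_inj] at a3
      exact absurd (F.inj a3) w2
    · rw [eq_mul_inv_iff_mul_eq] at a3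
      refine Or.inl ⟨fun z hz => ?_, ?_⟩
      · rcases V_three v hv w' hw v1 w1 w2 z hz with rfl | rfl | rfl | rfl
        exacts [by simp, a1, a3.symm, by rw [map_mul, ← mul_assoc, a1, mul_assoc, ← a3, ← mul_assoc]]
      · calc _ = g * (g⁻¹ * c * g * φ w') * g⁻¹ := by group
          _ = _ := by rw [← a3]; group
    · refine Or.inr ?_
      have a4 : φ w = (φ w)⁻¹ := by rw [eq_inv_iff_mul_eq_one, ← map_mul, V_sq w hw, map_one]
      calc _ = g * φ w * (g⁻¹ * c * g * (φ w)⁻¹ * (g⁻¹ * c * g)⁻¹) * g⁻¹ * c := by group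
        _ = _ := by
          rw [← a4, ← a3, mul_assoc g, ← map_mul, E_cen v (V_E v hv), ← mul_assoc, V_sq w hw, one_mul]
  set t := g * φ v * g⁻¹
  set y := g * φ w * g⁻¹
  have yt : y * t * y⁻¹ = t := by
    calc _ = g * φ (w * v * w⁻¹) * g⁻¹ := by simp only [map_mul, map_inv, t, y]; group
      _ = _ := by rw [← E_cen v (V_E v hv), mul_inv_cancel_right]
  have hE : ∀ c, InE c → act d c = c → φ c * t = t * φ c := fun c hc h => by
    rw [eq_comm, ← mul_inv_eq_iff_eq_mul, H.onE hc, h]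
  have yr := (hy _ (hE r (V_E r hr) r2)).resolve_left fun h =>
    hno g⁻¹ (fun h => hg (by simpa using inv_mem h)) r hr r1 (by simpa using h.1)
  obtain ⟨u, u1, u2, u3⟩ : ∃ u, InE u ∧ ¬ InV u ∧ Dd φ (φ u * t) := by
    rcases fix_u d hd hd2 hcv with ⟨c, c1, c2⟩ | h
    · refine ⟨_, E_mul c1 (E_act d _ (E_inv c1)), c2, ?_⟩
      convert hD.conj (φ c) using 1
      rw [map_mul, ← H.onE (E_inv c1), map_inv]; group
    · obtain ⟨c, c1, c2⟩ := H (o 1)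
      refine ⟨_, (h c c1).1, (h c c1).2, ?_⟩
      convert hD.conj (φ (o 1) * t * φ (o 1) * t⁻¹) using 1
      have a1 : (φ (o 1))⁻¹ = φ (o 1) := by
        rw [inv_eq_iff_mul_eq_one, ← map_mul, show (o 1 : SA) * o 1 = 1 by decide +kernel, map_one]
      rw [map_mul, map_mul, ← c2]
      simp only [mul_inv_rev, a1, inv_eq_of_mul_eq_one_left tt, mul_assoc, tt, mul_one]
  have ut : φ u * t = t * φ u := by
    obtain ⟨_, c, c1, -, c2⟩ := u3
    refine Cov.comm_of_sq (by rw [← map_mul, E_sq u u1, map_one]) tt ?_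
    rw [c2, conj_mul, ← map_mul, V_sq c c1]; simp
  have fin : ∀ e, InE e → ¬ InV e → ¬ Dd φ (φ e) := fun e he hv h => by
    obtain ⟨-, -, g, d, -, H, hd, -⟩ := F.swap_of_D he hv h
    exact hc ⟨g, d, H, hd⟩
  rcases hy _ ut with ⟨-, h⟩ | h
  · refine fin (u * r) (E_mul u1 (V_E r hr)) (fun h => u2 ((VV.mul_mem_cancel_right hr).1 h)) ?_
    convert (u3.conj (φ x)).conj y using 1
    have a1 : φ x * t * (φ x)⁻¹ = φ r * t := by
      have a2 := H.onE (E_inv (V_E x hx))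
      rw [act_inv, x1, map_inv, map_inv, map_mul, mul_inv_eq_iff_eq_mul] at a2
      rw [mul_assoc, a2, ← map_mul, ← E_cen r (V_E r hr), map_mul, mul_inv_rev, ← mul_assoc,
        mul_inv_cancel_left, ← map_inv, inv_eq_of_mul_eq_one_left (V_sq r hr)]
    calc _ = φ u * (t * φ r * t) := by rw [← hE r (V_E r hr) r2, mul_assoc, tt, mul_one, map_mul]
      _ = φ u * (y * φ r * y⁻¹ * (y * t * y⁻¹)) := by rw [yr, yt]
      _ = φ u * y * (φ x * t * (φ x)⁻¹) * y⁻¹ := by rw [a1]; group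
      _ = y * (φ (u * x) * t * (φ x)⁻¹) * y⁻¹ := by rw [h, map_mul]; group
      _ = _ := by rw [E_cen u u1, map_mul]; group
  · refine fin u u1 u2 ?_
    convert u3.conj y using 1
    calc _ = t * φ u * t := by rw [← ut, mul_assoc, tt, mul_one]
      _ = y * φ u * y⁻¹ * (y * t * y⁻¹) := by rw [h, yt]
      _ = _ := by group

theorem D_E {e : SA} (he : InE e) (hv : ¬ InV e) : Dd φ (φ e) ↔ InT e := by
  refine ⟨fun h => ?_, fun h => ?_⟩
  · obtain ⟨a, ha, g, d, v, H, hd, h1, h2⟩ := F.swap_of_D he hv h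
    have h3 := (fix_facts d v h1).2.2 hd
    obtain ⟨f, H'⟩ := F.ind_of_cent he (T_E _ h3) (fun h => hv (by
      rw [VT _ h h3, map_one, conj_eq_one_iff, map_eq_one_iff φ F.inj] at h2
      exact h2 ▸ VV.one_mem)) (le_normalizer ha) h2
    exact (fix_T f e he).1 (F.fix (le_normalizer ha) H') (F.inj ((H'.onE he).symm.trans h2) ▸ h3)
  · obtain ⟨g, d, H, hd⟩ := F.exists_swap
    exact ⟨g⁻¹, _, (fix_T d e he).2 hd h, fun h => hv (act_eq_one h ▸ VV.one_mem), by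
      rw [← H.onE he]; group⟩

theorem D_iff {x : SA} : Dd φ (φ x) ↔ DS x := by
  by_cases hv : InV x
  · refine ⟨fun ⟨g, v, _, h2, e⟩ => (DS_facts x).2 hv fun h => h2 (F.inj ?_), fun h =>
      ⟨1, x, hv, ((DS_facts x).1 h).2, by simp⟩⟩
    simpa [h] using e.symm
  have k : x * x = 1 → (Dd φ (φ x) ↔ DS x) := fun h => by
    obtain ⟨a, -, e, h1, h2, h3, h4⟩ := F.conj_E h hv
    rw [← h3, ← F.D_E h1 h2, ← h4]
    exact ⟨fun h => h.conj a, Dd.of_conj⟩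
  refine ⟨fun h => (k ?_).1 h, fun h => (k ((DS_facts x).1 h).1).2 h⟩
  obtain ⟨g, v, h1, -, e⟩ := h
  exact F.inj (by rw [map_mul, e, conj_mul, ← map_mul, V_sq v h1]; simp)

end Fr

end CfsgLib.StdR2
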