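import Cfsg.Agent.Lib.StdR2.HeModel
import Cfsg.Agent.Lib.Tech.SylowIn

/-! The action of the normaliser of `φ.range` modulo the centre. -/

set_option autoImplicit false
set_option Elab.async false
set_option synthInstance.maxSize 100000

namespace CfsgLib.StdR2

open Subgroup CfsgLib.W2 CfsgLib.W2.TG CfsgLib.Tech
open scoped commutatorElement

variable {G : Type*} [Group G] {φ : SA →* G} {g h : G} {d f : DD}

theorem cm_cen {x y e f : G} (he : ∀ w, e * w = w * e) (hf : ∀ w, f * w = w * f) :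
    ⁅x * e, y * f⁆ = ⁅x, y⁆ := by
  simp only [commutatorElement_def, mul_inv_rev]
  calc x * e * (y * f) * (e⁻¹ * x⁻¹) * (f⁻¹ * y⁻¹)
      = x * (e * (y * f) * e⁻¹) * x⁻¹ * f⁻¹ * y⁻¹ := by group
    _ = x * y * (f * x⁻¹ * f⁻¹) * y⁻¹ := by rw [he, mul_inv_cancel_right]; group
    _ = _ := by rw [hf, mul_inv_cancel_right]

/-- `g` acts as `d` modulo the centre -/
def Ind (φ : SA →* G) (g : G) (d : DD) : Prop :=
  ∀ x, ∃ e, InE e ∧ g * φ x * g⁻¹ = φ (act d x * e)

/-- `g` acts as `d` -/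
def Ex (φ : SA →* G) (g : G) (d : DD) : Prop := ∀ x, g * φ x * g⁻¹ = φ (act d x)

theorem E_one : InE 1 := by decide +kernel
theorem E_mul {a b : SA} (ha : InE a) (hb : InE b) : InE (a * b) := EE.mul_mem ha hb
theorem E_inv {a : SA} (ha : InE a) : InE a⁻¹ := EE.inv_mem ha
theorem E_sp : ∀ e : SA, InE e → bit (sp ([o 16, o 32, o 64, o 128] : List SA) 1) e.v = true := by
  decide +kernel
theorem E_gen : ∀ e ∈ ([o 16, o 32, o 64, o 128] : List SA), ∃ x y : SA, e = x * y * x⁻¹ * y⁻¹ := by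
  decide +kernel
theorem E_comm : ∀ s x : SA, InE (x⁻¹ * (s * x * s⁻¹)) := by decide +kernel
theorem act_faith : ∀ d f : DD, act d (o 16) = act f (o 16) → act d (o 32) = act f (o 32) →
    act d (o 64) = act f (o 64) → act d (o 128) = act f (o 128) → d = f := by decide +kernel

theorem Ex.ind (H : Ex φ g d) : Ind φ g d := fun x => ⟨1, E_one, by rw [mul_one, H x]⟩

theorem Ind.onE (H : Ind φ g d) {e : SA} (he : InE e) : g * φ e * g⁻¹ = φ (act d e) := by
  refine sp_ind (P := fun e => g * φ e * g⁻¹ = φ (act d e)) (by simp [act_one])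
    (fun a ih b hb => ?_) (E_sp e he)
  obtain ⟨x, y, rfl⟩ := E_gen b hb
  obtain ⟨e, he, h1⟩ := H x
  obtain ⟨f, hf, h2⟩ := H y
  have h3 := congrArg φ (cm_cen (x := act d x) (y := act d y) (E_cen e he) (E_cen f hf))
  rw [map_commutatorElement, ← h1, ← h2, commutatorElement_def, commutatorElement_def] at h3
  rw [act_mul, map_mul φ (act d a), ← ih, act_mul, act_mul, act_mul, act_inv, act_inv, ← h3]
  simp only [map_mul, map_inv]
  group

theorem Ind.of_mem (φ : SA →* G) (s : SA) : Ind φ (φ s) 1 := fun x =>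
  ⟨_, E_comm s x, by simp [one_act]⟩

theorem Ind.one (φ : SA →* G) : Ind φ 1 1 := by simpa using Ind.of_mem φ 1

theorem Ind.mul (H : Ind φ g d) (H' : Ind φ h f) : Ind φ (g * h) (d * f) := fun x => by
  obtain ⟨e, he, h1⟩ := H' x
  obtain ⟨e', he', h2⟩ := H (act f x)
  refine ⟨e' * act d e, E_mul he' (E_act d e he), ?_⟩
  rw [mul_act, ← mul_assoc, map_mul, ← h2, ← H.onE he]
  calc _ = g * (h * φ x * h⁻¹) * g⁻¹ := by group
    _ = _ := by rw [h1, map_mul]; group

theorem Ind.inv (H : Ind φ g d) : Ind φ g⁻¹ d⁻¹ := fun x => by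
  obtain ⟨e, he, h1⟩ := H (act d⁻¹ x)
  have h2 := H.onE (E_act d⁻¹ e he)
  rw [act_inv_act] at h1 h2
  refine ⟨_, E_inv (E_act d⁻¹ e he), ?_⟩
  rw [map_mul, ← h2] at h1
  rw [map_mul, map_inv, eq_mul_inv_of_mul_eq h1.symm]
  group

theorem Ind.pow (H : Ind φ g d) : ∀ n : ℕ, Ind φ (g ^ n) (d ^ n)
  | 0 => by simpa using Ind.one φ
  | n + 1 => by rw [pow_succ, pow_succ]; exact (H.pow n).mul H

theorem Ind.conj (H : Ind φ g d) (H' : Ind φ h f) : Ind φ (g * h * g⁻¹) (d * f * d⁻¹) :=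
  (H.mul H').mul H.inv

theorem Ind.eq_of (hi : Function.Injective φ) (H : Ind φ g d)
    (H' : ∀ e, InE e → g * φ e * g⁻¹ = φ (act f e)) : d = f := by
  have k : ∀ e, InE e → act d e = act f e := fun e he => hi ((H.onE he).symm.trans (H' e he))
  exact act_faith d f (k _ (by decide +kernel)) (k _ (by decide +kernel)) (k _ (by decide +kernel))
    (k _ (by decide +kernel))

theorem Ind.unique (hi : Function.Injective φ) (H : Ind φ g d) (H' : Ind φ g f) : d = f :=
  H.eq_of hi fun _ => H'.onE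

theorem Ind.mem_norm [Finite G] (H : Ind φ g d) : g ∈ normalizer (φ.range : Set G) :=
  mem_normalizer_of_forall (by
    rintro _ ⟨x, rfl⟩
    obtain ⟨e, -, h1⟩ := H x
    exact ⟨_, h1.symm⟩)

theorem Ex.mul (H : Ex φ g d) (H' : Ex φ h f) : Ex φ (g * h) (d * f) := fun x => by
  rw [mul_act, ← H, ← H']; group

theorem Ex.inv (H : Ex φ g d) : Ex φ g⁻¹ d⁻¹ := fun x => by
  have := H (act d⁻¹ x)
  rw [act_inv_act] at this
  rw [← this]; group

theorem Ex.of_E (φ : SA →* G) {e : SA} (he : InE e) : Ex φ (φ e) 1 := fun x => by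
  rw [← map_mul, E_cen e he, map_mul, mul_inv_cancel_right, one_act]

/-- the class modulo the centre -/
noncomputable abbrev cl (x : SA) : ℕ := Nat.land x.v 15

theorem cl_mul : ∀ x y : SA, cl (x * y) = Nat.xor (cl x) (cl y) := by decide +kernel
theorem cl_inv : ∀ x : SA, cl x⁻¹ = cl x ∧ cl x < 16 ∧
    (bit 0x111f (cl x) = true ↔ x * x = 1) := by decide +kernel
theorem E_of_cen : ∀ x : SA, x * o 1 = o 1 * x → x * o 4 = o 4 * x → x * o 2 = o 2 * x →
    x * o 8 = o 8 * x → InE x := by decide +kernel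
theorem aut_gen : ∀ p : Fin 16, p.1 ≠ 0 → bit 0x111f p = true → ∀ q : Fin 16, q.1 ≠ 0 →
    bit 0x111f q = true → Nat.xor p q ≠ 0 → bit 0x111f (Nat.xor p q) = true → ∀ r : Fin 16,
    bit 0x111f r = true → ¬ bit 0x111f (Nat.xor p r) = true → ∀ s : Fin 16, s.1 ≠ 0 →
    bit 0x111f s = true → Nat.xor r s ≠ 0 → bit 0x111f (Nat.xor r s) = true →
    ∃ d : DD, cl (act d (o 1)) = p ∧ cl (act d (o 2)) = q ∧ cl (act d (o 4)) = r ∧
      cl (act d (o 8)) = s := by decide +kernel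

theorem exists_act {α : SA →* SA} (hα : Function.Injective α) :
    ∃ d, ∀ x, InE ((act d x)⁻¹ * α x) := by
  have h1 : ∀ x, x * x = 1 ↔ bit 0x111f (cl (α x)) = true := fun x => by
    rw [(cl_inv _).2.2, ← map_mul, map_eq_one_iff α hα]
  have h2 : ∀ x, ¬ InE x → cl (α x) ≠ 0 := fun x hx h => by
    have k : ∀ y, x * y = y * x := fun y => hα (by rw [map_mul, map_mul, E_cen _ h])
    exact hx (E_of_cen x (k _) (k _) (k _) (k _))
  have h3 : ∀ x y, Nat.xor (cl (α x)) (cl (α y)) = cl (α (x * y)) := fun x y => by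
    rw [map_mul, cl_mul]
  obtain ⟨d, e1, e2, e3, e4⟩ := aut_gen ⟨_, (cl_inv (α (o 1))).2.1⟩ (h2 _ (by decide +kernel))
    ((h1 _).1 (by decide +kernel)) ⟨_, (cl_inv (α (o 2))).2.1⟩ (h2 _ (by decide +kernel))
    ((h1 _).1 (by decide +kernel)) ((h3 _ _).trans_ne (h2 _ (by decide +kernel)))
    (h3 _ _ ▸ (h1 _).1 (by decide +kernel)) ⟨_, (cl_inv (α (o 4))).2.1⟩
    ((h1 _).1 (by decide +kernel)) (h3 _ _ ▸ mt (h1 _).2 (by decide +kernel))
    ⟨_, (cl_inv (α (o 8))).2.1⟩ (h2 _ (by decide +kernel)) ((h1 _).1 (by decide +kernel))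
    ((h3 _ _).trans_ne (h2 _ (by decide +kernel))) (h3 _ _ ▸ (h1 _).1 (by decide +kernel))
  refine ⟨d, fun x => ?_⟩
  have h4 : cl (act d x) = cl (α x) := by
    refine ind_of_genB genA (P := fun x => cl (act d x) = cl (α x)) (by rw [act_one, map_one])
      (fun a ih b hb => ?_) x
    rw [act_mul, map_mul, cl_mul, cl_mul, ih]
    simp only [List.mem_cons, List.not_mem_nil, or_false] at hb
    rcases hb with rfl | rfl | rfl | rfl
    exacts [by rw [e1], by rw [e2], by rw [e3], by rw [e4]]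
  show cl _ = 0
  rw [cl_mul, (cl_inv _).1, h4]
  exact Nat.xor_self _

theorem exists_ind (hi : Function.Injective φ) (hg : ∀ x, g * φ x * g⁻¹ ∈ φ.range) :
    ∃ d, Ind φ g d := by
  choose α hα using hg
  obtain ⟨d, hd⟩ := exists_act (α := MonoidHom.mk' α fun x y => hi (by
    rw [map_mul, hα, hα, hα, map_mul]; group)) fun x y e => hi (by
      have := (hα x).symm.trans ((congrArg φ e).trans (hα y))
      simpa using this)
  exact ⟨d, fun x => ⟨_, hd x, by rw [mul_inv_cancel_left]; exact (hα x).symm⟩⟩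

end CfsgLib.StdR2
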