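import Cfsg.Agent.Lib.StdR2.HeGR2

/-! Two commuting involutions `s₁`, `s₂` normalising the Sylow subgroup of `A`. -/

set_option autoImplicit false
set_option Elab.async false
set_option synthInstance.maxSize 100000

namespace CfsgLib.StdR2

open Subgroup Cfsg CfsgLib.W2 CfsgLib.W2.TG CfsgLib.Tech

variable {G : Type*} [Group G] {A : Subgroup G} {φ : SA →* G} {n m τ g h : G} {d : DD}
  {P : SA → Prop} {f f' : SA → SA}

/-- `g` acts as `f` on the elements with `P` -/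
def Ac (φ : SA →* G) (P : SA → Prop) (g : G) (f : SA → SA) : Prop :=
  ∀ w, P w → P (f w) ∧ g * φ w * g⁻¹ = φ (f w)

theorem Ac.mul (H : Ac φ P g f) (H' : Ac φ P h f') : Ac φ P (g * h) fun w => f (f' w) := fun w hw =>
  ⟨(H _ (H' w hw).1).1, by rw [← (H _ (H' w hw).1).2, ← (H' w hw).2]; group⟩

theorem Ac.inv (H : Ac φ P g f) (h : ∀ w, P w → f (f w) = w) : Ac φ P g⁻¹ f := fun w hw =>
  ⟨(H w hw).1, by rw [← congrArg φ (h w hw), ← (H _ (H w hw).1).2]; group⟩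

theorem Ex.ac (H : Ex φ g d) (h : ∀ w, P w → P (act d w)) : Ac φ P g (act d) := fun w hw =>
  ⟨h w hw, H w⟩

theorem ac_mem (φ : SA →* G) (s : SA) (h : ∀ w, P w → P (s * w * s⁻¹)) :
    Ac φ P (φ s) fun w => s * w * s⁻¹ := fun w hw => ⟨h w hw, by simp⟩

theorem Ex.of_gens (h : ∀ x ∈ ([o 1, o 2, o 4, o 8] : List SA), g * φ x * g⁻¹ = φ (act d x)) :
    Ex φ g d := ind_of_genB genA (by simp [act_one]) fun a ih x hx => by
  rw [act_mul, map_mul, map_mul, ← ih, ← h x hx]; group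

theorem DS_act : ∀ d : DD, ∀ x, DS (act d x) → DS x := by decide +kernel
theorem ex_a : ∀ e, InE e → DS (o 1 * e) → ∀ f, InE f → DS (o 2 * f) → DS (o 1 * e * (o 2 * f)) →
    ∃ i : Fin 4, ∀ j : Fin 4, o j * bb i * o 1 * (o j * bb i)⁻¹ = o 1 * e ∧
      o j * bb i * o 2 * (o j * bb i)⁻¹ = o 2 * f := by decide +kernel
theorem ex_b : ∀ e, InE e → DS (o 4 * e) → ∀ f, InE f → DS (o 8 * f) → DS (o 4 * e * (o 8 * f)) →
    ∃ j : Fin 4, ∀ i : Fin 4, o j * bb i * o 4 * (o j * bb i)⁻¹ = o 4 * e ∧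
      o j * bb i * o 8 * (o j * bb i)⁻¹ = o 8 * f := by decide +kernel
theorem nu_facts : ∀ w, (InW1 w → InW1 (nu w) ∧ nu (nu w) = w) ∧
    (InW2 w → InW2 (mu w) ∧ mu (mu w) = w) := by decide +kernel
theorem alpha_aux : ∀ d : DD, ¬ Fix d → ¬ NS d → (∀ w, InW1 w → InW2 (act d w) ∧
    InW1 (act d⁻¹ (mu (act d w)))) ∧ ∃ f, ¬ Fix f ∧ NS f ∧ ∀ e, InE e →
      act d⁻¹ (mu (act d (nu (act d⁻¹ (mu (act d e)))))) = act f e := by decide +kernel
theorem swap_type : ∀ d : DD, ¬ Fix d → NS d → ∃ i j : Fin 3,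
    dτ ^ i.1 * d * dτ ^ j.1 = σ1 ∨ dτ ^ i.1 * d * dτ ^ j.1 = σ2 := by decide +kernel

/-- the four-group generated by `σ1`, `σ2` -/
noncomputable def U0 : Subgroup DD := sub (fun d => bit 0xc3 d.v = true) (by decide +kernel)

theorem U0_facts : ∀ d, bit 0xc3 d.v = true → d * d = 1 ∧ ∀ c : DD, bit 0xc3 c.v = true →
    c * d * c⁻¹ = d := by decide +kernel

/-- the elements of `DD` which are induced -/
def Gam (φ : SA →* G) : Subgroup DD where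
  carrier := {d | ∃ g, Ex φ g d}
  one_mem' := ⟨_, Ex.of_E φ E_one⟩
  mul_mem' := fun ⟨_, h⟩ ⟨_, h'⟩ => ⟨_, h.mul h'⟩
  inv_mem' := fun ⟨_, h⟩ => ⟨_, h.inv⟩

/-- the frame with `s₁` and `s₂` -/
structure Fr2 (A : Subgroup G) (φ : SA →* G) (n m τ s t : G) : Prop extends Fr A φ n m τ where
  e1 : Ex φ s σ1
  e2 : Ex φ t σ2
  q1 : s * s = 1
  q2 : t * t = 1
  cm : s * t = t * s

theorem Fr2.symm {s t : G} (F : Fr2 A φ n m τ s t) : Fr2 A (sw φ) m n τ t s :=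
  ⟨F.toFr.symm, (by decide +kernel : π0 * σ2 * π0 = σ1) ▸ F.e2.swap sw_apply,
    (by decide +kernel : π0 * σ1 * π0 = σ2) ▸ F.e1.swap sw_apply, F.q2, F.q1, F.cm.symm⟩

namespace Fr

variable (F : Fr A φ n m τ)
include F

theorem acn : Ac φ InW1 n StdR2.nu := fun w hw => ⟨((nu_facts w).1 hw).1, F.nu w hw⟩
theorem acm : Ac φ InW2 m StdR2.mu := fun w hw => ⟨((nu_facts w).2 hw).1, F.mu w hw⟩
theorem acn' : Ac φ InW1 n⁻¹ StdR2.nu := F.acn.inv fun w hw => ((nu_facts w).1 hw).2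
theorem acm' : Ac φ InW2 m⁻¹ StdR2.mu := F.acm.inv fun w hw => ((nu_facts w).2 hw).2

variable [Finite G] [IsSimpleGroup G]

theorem exact (H : Ind φ g d) : ∃ s, Ex φ ((φ s)⁻¹ * g) d := by
  have k : ∀ x, ∃ e, InE e ∧ g * φ x * g⁻¹ = φ (act d (x * e)) := fun x => by
    obtain ⟨e, he, h⟩ := H x
    exact ⟨_, E_act d⁻¹ e he, by rw [act_mul, act_inv_act, h]⟩
  have k1 : ∀ {x y}, DS x → g * φ x * g⁻¹ = φ (act d y) → DS y := fun hx h =>
    DS_act d _ (F.D_iff.1 (h ▸ (F.D_iff.2 hx).conj g))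
  have k2 : ∀ {x y x' y'}, g * φ x * g⁻¹ = φ (act d y) → g * φ x' * g⁻¹ = φ (act d y') →
      g * φ (x * x') * g⁻¹ = φ (act d (y * y')) := fun h h' => by
    rw [act_mul, map_mul, map_mul, ← h, ← h']; group
  obtain ⟨e1, a1, b1⟩ := k (o 1)
  obtain ⟨e2, a2, b2⟩ := k (o 2)
  obtain ⟨e3, a3, b3⟩ := k (o 4)
  obtain ⟨e4, a4, b4⟩ := k (o 8)
  obtain ⟨i, hi⟩ := ex_a e1 a1 (k1 (by decide +kernel) b1) e2 a2 (k1 (by decide +kernel) b2)
    (k1 (by decide +kernel) (k2 b1 b2))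
  obtain ⟨j, hj⟩ := ex_b e3 a3 (k1 (by decide +kernel) b3) e4 a4 (k1 (by decide +kernel) b4)
    (k1 (by decide +kernel) (k2 b3 b4))
  have k3 : ∀ {x y s}, g * φ x * g⁻¹ = φ (act d y) → s * x * s⁻¹ = y →
      (φ (act d s))⁻¹ * g * φ x * ((φ (act d s))⁻¹ * g)⁻¹ = φ (act d x) := fun {x y s} h h' => by
    calc _ = (φ (act d s))⁻¹ * (g * φ x * g⁻¹) * φ (act d s) := by group
      _ = _ := by rw [h, ← h', act_mul, act_mul, act_inv]; simp [mul_assoc]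
  refine ⟨act d (o j * bb i), Ex.of_gens fun x hx => ?_⟩
  simp only [List.mem_cons, List.not_mem_nil, or_false] at hx
  rcases hx with rfl | rfl | rfl | rfl
  exacts [k3 b1 (hi j).1, k3 b2 (hi j).2, k3 b3 (hj i).1, k3 b4 (hj i).2]

theorem gam (H : Ind φ g d) : d ∈ Gam φ := (F.exact H).elim fun _ h => ⟨_, h⟩

theorem alpha : ∃ d ∈ Gam φ, ¬ Fix d ∧ NS d := by
  obtain ⟨g, d, H, hd⟩ := F.exists_swap
  by_cases h : NS d
  · exact ⟨d, F.gam H, hd, h⟩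
  obtain ⟨g, H⟩ := F.gam H
  obtain ⟨h1, f, h2, h3, h4⟩ := alpha_aux d hd h
  have h5 : Ac φ InW1 (g⁻¹ * m * g) fun w => act d⁻¹ (StdR2.mu (act d w)) := fun w hw =>
    ⟨(h1 w hw).2, by rw [← H.inv, ← F.mu _ (h1 w hw).1, ← H]; group⟩
  have h6 := (h5.mul F.acn).mul (h5.inv fun w hw => by
    rw [act_inv_act, ((nu_facts _).2 (h1 w hw).1).2, inv_act])
  exact ⟨f, F.gam (F.ind_E fun e he => (h6 e (E_W e he).1).2.trans (congrArg φ (h4 e he))), h2, h3⟩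

theorem beta (h : σ1 ∈ Gam φ) : σ2 ∈ Gam φ := by
  obtain ⟨g, H⟩ := h
  have h1 := H.ac (P := InW1) (by decide +kernel)
  have h2 := (F.acn.mul h1).mul F.acn'
  have h3 := ac_mem (P := InW1) φ (o 4) (by decide +kernel)
  have h4 := (h3.mul h2).mul (h3.inv (by decide +kernel))
  have h5 := (h4.mul h2).mul (h4.inv (by decide +kernel))
  have h6 := F.gam (F.ind_E (d := o 7) fun e he => (h5 e (E_W e he).1).2.trans
    (congrArg φ (by revert e; decide +kernel)))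
  exact (by decide +kernel : σ1 * o 7 = σ2) ▸ mul_mem ⟨g, H⟩ h6

theorem gam_σ : σ1 ∈ Gam φ ∧ σ2 ∈ Gam φ := by
  obtain ⟨d, h1, h2, h3⟩ := F.alpha
  obtain ⟨i, j, h⟩ := swap_type d h2 h3
  have h0 : dτ ∈ Gam φ := ⟨τ, F.tau⟩
  have h4 := mul_mem (mul_mem (pow_mem h0 i) h1) (pow_mem h0 j)
  rcases h with h | h <;> rw [h] at h4
  · exact ⟨h4, F.beta h4⟩
  · obtain ⟨g, H⟩ := h4
    obtain ⟨g', H'⟩ := F.symm.beta ⟨g, (by decide +kernel : π0 * σ2 * π0 = σ1) ▸ H.swap sw_apply⟩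
    exact ⟨⟨g', (by decide +kernel : π0 * σ2 * π0 = σ1) ▸ H'.swap sw_π0⟩, g, H⟩

theorem ex_one (H : Ex φ g 1) {j : ℕ} (h : g ^ 2 ^ j = 1) : ∃ e, InE e ∧ φ e = g := by
  obtain ⟨e, rfl⟩ := F.two_mem H.ind h
  have k : ∀ y, e * y = y * e := fun y => F.inj (by
    rw [map_mul, map_mul, ← mul_inv_eq_iff_eq_mul, H, one_act])
  exact ⟨e, E_of_cen e (k _) (k _) (k _) (k _), rfl⟩

theorem exists_fr2 : ∃ s t, Fr2 A φ n m τ s t := by
  obtain ⟨P, hP, hle⟩ := exists_isSylowIn_ge (H := pre φ U0) F.syl.pgroup (by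
    rintro _ ⟨x, rfl⟩; exact ⟨1, one_mem _, Ind.of_mem φ x⟩)
  have k1 : ∀ g ∈ P, Ex φ g 1 → ∃ e, InE e ∧ φ e = g := fun g hg H =>
    (isPGroup_iff_mem.1 hP.pgroup g hg).elim fun _ h => F.ex_one H h
  have k2 : ∀ d ∈ U0, d ∈ Gam φ → (∀ e, InE e → act d e = e → ∃ c, InE c ∧ c * act d c * e = 1) →
      ∃ s ∈ P, Ex φ s d ∧ s * s = 1 := fun d hd ⟨g, H⟩ h => by
    obtain ⟨k, _, ⟨l, rfl⟩, e⟩ := Nat.exists_eq_two_pow_mul_odd (orderOf_pos g).ne'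
    have h1 := H.ind.pow (2 * l + 1)
    rw [pow_succ d, pow_mul d, pow_two, (U0_facts d hd).1, one_pow, one_mul] at h1
    obtain ⟨c, ⟨f, hf, H'⟩, hc⟩ := hP.exists_conj_mem ⟨d, hd, h1⟩ (isPGroup_zpowers_of_pow (k := k)
      (by rw [← pow_mul, mul_comm, ← e, pow_orderOf_eq_one]))
    obtain ⟨x, hx⟩ := F.exact ((U0_facts d hd).2 f hf ▸ H'.conj h1)
    have h2 := mul_mem (inv_mem (hle ⟨x, rfl⟩)) hc
    generalize (φ x)⁻¹ * _ = s at hx h2
    obtain ⟨e, he, h3⟩ := k1 _ (mul_mem h2 h2) ((U0_facts d hd).1 ▸ hx.mul hx)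
    obtain ⟨c, h4, h5⟩ := h e he (F.inj (by rw [← hx, h3]; group))
    refine ⟨φ c * s, mul_mem (hle ⟨c, rfl⟩) h2, one_mul d ▸ (Ex.of_E φ h4).mul hx, ?_⟩
    rw [← map_one φ, ← h5, map_mul, map_mul, ← hx, h3]; group
  obtain ⟨s, hs, H1, q1⟩ := k2 σ1 (show bit _ _ = true by decide +kernel) F.gam_σ.1 (by decide +kernel)
  obtain ⟨t, ht, H2, q2⟩ := k2 σ2 (show bit _ _ = true by decide +kernel) F.gam_σ.2 (by decide +kernel)
  obtain ⟨e, he, h1⟩ := k1 _ (mul_mem (mul_mem hs ht) (mul_mem hs ht))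
    ((by decide +kernel : σ1 * σ2 * (σ1 * σ2) = 1) ▸ (H1.mul H2).mul (H1.mul H2))
  have i1 := inv_eq_of_mul_eq_one_left q1
  have i2 := inv_eq_of_mul_eq_one_left q2
  obtain ⟨c, h2, h3, h4⟩ := (by decide +kernel : ∀ e, InE e → act σ1 e * e = 1 → act σ2 e * e = 1 →
    ∃ c, InE c ∧ c * act σ2 c = 1 ∧ act σ1 c * e = c) e he (F.inj (by
      rw [map_mul, ← H1, h1, i1, map_one]
      calc _ = s * s * t * s * t * (s * s) * t * s * t := by group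
        _ = t * s * (t * t) * s * t := by rw [q1]; group
        _ = _ := by rw [q2, mul_one, mul_assoc t s, q1, mul_one, q2])) (F.inj (by
      rw [map_mul, ← H2, h1, i2, map_one]
      calc _ = t * s * t * s * (t * t) * s * t * s * t := by group
        _ = t * s * t * (s * s) * t * s * t := by rw [q2]; group
        _ = t * s * (t * t) * s * t := by rw [q1]; group
        _ = _ := by rw [q2, mul_one, mul_assoc t s, q1, mul_one, q2]))
  refine ⟨s, φ c * t, F, H1, one_mul σ2 ▸ (Ex.of_E φ h2).mul H2, q1, ?_, ?_⟩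
  · rw [← map_one φ, ← h3, map_mul, ← H2, i2, mul_assoc, mul_assoc]
  · conv_rhs => rw [← h4, map_mul, ← H1, h1]
    calc _ = s * φ c * t * (s * (t * t) * s) := by rw [q2, mul_one, q1, mul_one, mul_assoc]
      _ = _ := by group

end Fr

end CfsgLib.StdR2
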