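import Cfsg.Agent.Lib.StdR2.HeFus

/-! The image of `SM` is a Sylow 2-subgroup of `G`. -/

set_option autoImplicit false
set_option Elab.async false
set_option synthInstance.maxSize 100000
set_option maxRecDepth 100000

namespace CfsgLib.StdR2

open Subgroup Cfsg CfsgLib.W2 CfsgLib.W2.TG CfsgLib.Tech

variable {G : Type*} [Group G] [Finite G] [IsSimpleGroup G] {A P : Subgroup G} {φ : SA →* G}
  {n m τ s t g y : G} {d : DD}

theorem Fr.no_two (F : Fr A φ n m τ) (M : Subgroup G) : M.index ≠ 2 := fun h => by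
  rcases (normal_of_index_eq_two h).eq_bot_or_eq_top with rfl | rfl
  · have := card_le_of_le (le_top (a := A))
    rw [F.card, card_top, ← index_bot, h] at this
    omega
  · simp at h

namespace Fr2

variable (F : Fr2 A φ n m τ s t)
include F

theorem sec (hP : IsSylowIn 2 P ⊤) (hle : P ≤ pre φ D8U) (h : CenV φ (g * φ (o 16) * g⁻¹)) :
    g * φ (o 16) * g⁻¹ ∈ A := by
  have hz : InE (o 16) := by decide +kernel
  have h1 : P ≤ Cx (φ (o 16)) := fun p hp => by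
    obtain ⟨d, hd, H⟩ := hle hp
    rw [mem_Cx, ← mul_inv_eq_iff_eq_mul, H.onE hz, ((d8_facts d).2.1 hd).1]
  obtain ⟨c, hc, h2⟩ := (hP.of_le h1 le_top).exists_cj_le (Q := cj g⁻¹ (VV.map φ))
    (isPGroup_cj _ F.sylV.pgroup) (cj_le_iff.2 (by
      rintro _ ⟨v, hv, rfl⟩
      rw [mem_Cx]
      calc _ = g⁻¹ * (φ v * (g * φ (o 16) * g⁻¹)) * g := by group
        _ = _ := by rw [← h v hv]; group))
  rw [← cj_mul, cj_le_iff] at h2
  have h3 : g * φ (o 16) * g⁻¹ = (c * g⁻¹)⁻¹ * φ (o 16) * (c * g⁻¹)⁻¹⁻¹ := by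
    calc _ = g * c⁻¹ * (c * φ (o 16)) * g⁻¹ := by group
      _ = _ := by rw [mem_Cx.1 hc]; group
  rw [h3]
  generalize c * g⁻¹ = k at h2
  have hv : InV (o 96) := by decide +kernel
  obtain ⟨x, hx⟩ := F.VS (fun v hv => (hle (h2 _ ⟨v, hv, rfl⟩)).imp fun _ h => h.2) hv
  have h4 := F.D_iff.1 ⟨k, _, hv, by decide +kernel, hx⟩
  by_cases h5 : InV x
  · exact conj_mem_of_mem_normalizer (inv_mem (F.H_of_conj hv (by decide +kernel)
      (hx ▸ F.V_mem h5))) (F.mem _)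
  obtain ⟨a, ha, e, h6, h7, h8, h9⟩ := F.conj_E ((DS_facts x).1 h4).1 h5
  have hk := F.H_of_conj (g := s * a * k) hv (by decide +kernel) (by
    convert F.V_mem ((fix_T σ1 e h6).2 (by decide +kernel) (h8.2 h4)) using 1
    rw [← F.e1, ← h9, hx]; group)
  obtain ⟨w, hw⟩ := F.cent e h6 h7 _ (mul_mem (mul_mem ha (F.mem (o 16))) (inv_mem ha)) (by
    rw [← h9, conj_mul, conj_mul, ← map_mul, ← map_mul, E_cen _ hz])
  convert conj_mem_of_mem_normalizer (inv_mem hk) (F.mem (act σ1 w)) using 1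
  rw [← F.e1, hw]; group

theorem not_fus (hP : IsSylowIn 2 P ⊤) (hle : P ≤ pre φ D8U) (H : Ind φ y (σ1 * π0 * σ1⁻¹))
    (h : y * y = 1) : ¬ (g * y * g⁻¹ = φ (o 96) ∨ g * y * g⁻¹ = φ (o 16)) := fun h1 => by
  have hc := (F.cenV_iff H).2 (by decide +kernel)
  have hv : InV (o 96) := by decide +kernel
  have h2 : ∀ x, g * y * g⁻¹ = φ x → y = g⁻¹ * φ x * g⁻¹⁻¹ := fun x h => by rw [← h]; group
  obtain ⟨x, rfl⟩ := F.mem_of_A (by
    rcases h1 with h1 | h1 <;> rw [h2 _ h1] at hc ⊢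
    · by_cases hg : g⁻¹ ∈ HH A
      · exact conj_mem_of_mem_normalizer hg (F.mem _)
      · exact F.mem_A hg (Or.inl ⟨_, hv, by decide +kernel, hc⟩) hv
    · exact F.sec hP hle hc) H h
  exact absurd (H.unique F.inj (Ind.of_mem φ x)) (by decide +kernel)

theorem exists_pi (hP : IsPGroup 2 P) (hle : F.Phi.range ≤ P) (hg : g ∈ P) (H : Ind φ g d)
    (hd : D8 d) (h : d ∉ U0) : ∃ y ∈ P, Ex φ y π0 ∧ y * y = 1 := by
  obtain ⟨i, hi⟩ := (by decide +kernel : ∀ d : DD, D8 d → ¬ bit 0xc3 d.v = true → ∃ i : Fin 4,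
    d * dkD (sn (o (256 * i))) = π0) d hd h
  obtain ⟨x, hx⟩ := F.exact (hi ▸ H.mul (F.ind_Phi _))
  have h2 := mul_mem (inv_mem (hle (F.range_le ⟨x, rfl⟩))) (mul_mem hg (hle ⟨o (256 * i), rfl⟩))
  generalize (φ x)⁻¹ * _ = p at hx h2
  obtain ⟨j, hj⟩ := isPGroup_iff_mem.1 hP _ (mul_mem h2 h2)
  obtain ⟨e, he, h3⟩ := F.ex_one ((by decide +kernel : π0 * π0 = 1) ▸ hx.mul hx) hj
  have h4 : Ex φ (p * τ * p⁻¹ * τ⁻¹) 1 :=
    (by decide +kernel : π0 * dτ * π0⁻¹ * dτ⁻¹ = 1) ▸ ((hx.mul F.tau).mul hx.inv).mul F.tau.inv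
  obtain ⟨f, h5⟩ := F.cent (o 16) (by decide +kernel) (by decide +kernel) _ (mul_mem
    (conj_mem_of_mem_normalizer (F.H_of_fix hx.ind (by decide +kernel)) F.τ_mem) (inv_mem F.τ_mem))
    (by rw [← mul_inv_eq_iff_eq_mul, h4, one_act])
  have k : ∀ y, f * y = y * f := fun y => F.inj (by
    rw [map_mul, map_mul, ← mul_inv_eq_iff_eq_mul, h5, h4, one_act])
  obtain ⟨c, h6, h7⟩ := (by decide +kernel : ∀ e, InE e → act π0 e = e → ∀ f, InE f →
    e * act dτ e⁻¹ = act π0 f * f → ∃ c, InE c ∧ c * act π0 c * e = 1) e he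
    (F.inj (by rw [← hx, h3]; group)) f (E_of_cen f (k _) (k _) (k _) (k _)) (F.inj (by
      rw [map_mul, map_mul, ← F.tau, ← hx, map_inv, h3, h5]; group))
  refine ⟨φ c * p, mul_mem (hle (F.range_le ⟨c, rfl⟩)) h2, one_mul π0 ▸ (Ex.of_E φ h6).mul hx, ?_⟩
  rw [← map_one φ, ← h7, map_mul, map_mul, ← hx, h3]; group

theorem sylG : IsSylowIn 2 F.Phi.range ⊤ := by
  obtain ⟨P, hP, hle⟩ := exists_isSylowIn_ge (H := pre φ D8U) F.sylS.pgroup fun g hg =>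
    (F.le_pre hg).imp fun d h => ⟨((d8_facts d).2.2 h.1).1, h.2⟩
  have hG := F.sylP hP hle
  have hm : ∀ g ∈ P, ∀ d, Ind φ g d → (g ∈ F.Phi.range ↔ d ∈ U0) := fun g hg d H =>
    ⟨fun h => (F.le_pre h).elim fun _ h => h.2.unique F.inj H ▸ h.1, F.mem_S hP.pgroup hle hg H⟩
  refine le_antisymm hle (fun g hg => by_contra fun h => ?_) ▸ hG
  obtain ⟨d, hd, H⟩ := hP.le hg
  obtain ⟨y, hy, H', q⟩ := F.exists_pi hP.pgroup hle hg H hd (mt (hm g hg d H).2 h)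
  rcases Transfer.thompson_transfer (H := P) (Q := F.Phi.range) (by simpa using hG.not_dvd)
    (relIndex_eq_two_iff.2 ⟨y, hy, fun b hb => by
      obtain ⟨f, hf, H⟩ := hP.le hb
      rw [hm _ (mul_mem hb hy) _ (H.mul H'.ind), hm b hb f H]
      have := ((d8_facts f).2.1 hf).2
      change Xor (bit _ _ = true) (bit _ _ = true)
      unfold Xor
      tauto⟩) (u := s * y * s⁻¹) (ord_two (by rw [conj_mul, q]; simp) fun e => by
      exact absurd ((F.e1.ind.conj H'.ind).unique F.inj (e ▸ Ind.one φ)) (by decide +kernel)) with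
    ⟨M, -, h1, -⟩ | ⟨c, h1⟩
  · exact F.no_two M h1
  have q' : s * y * s⁻¹ * (s * y * s⁻¹) = 1 := by rw [conj_mul, q]; simp
  obtain ⟨b, -, h2⟩ := F.fus h1 (by rw [conj_mul, q']; simp) fun e => absurd
    ((F.e1.ind.conj H'.ind).unique F.inj (conj_eq_one_iff.1 e ▸ Ind.one φ)) (by decide +kernel)
  exact F.not_fus hG hP.le (g := b * c) (F.e1.ind.conj H'.ind) q' (by simpa [mul_assoc] using h2)

end Fr2

end CfsgLib.StdR2
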